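import Groth.Agent.WittGrpLib.Points
import Groth.Agent.WittGrpLib.Dim
import Groth.Agent.SemiAbLib.Points
import Groth.Agent.SemiAbLib.FinIsog
import Groth.Agent.GrpHomLib.Field

/-!
Homomorphisms that are surjective with finite kernel on rational points.
-/

set_option autoImplicit false
set_option linter.style.haveILetI false
set_option backward.isDefEq.respectTransparency false
set_option maxHeartbeats 1000000

noncomputable section

universe u

open CategoryTheory CategoryTheory.Limits MonoidalCategory CartesianMonoidalCategory MonObj AlgebraicGeometry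
open Groth.Agent

namespace UnipStruct

variable {k : Type u} [Field k]

local notation "SK" => Spec (CommRingCat.of k)
local notation "PT" => 𝟙_ (Over (Spec (CommRingCat.of k)))

/-- Surjective on rational points, with finitely many rational points in the kernel. -/
def PtIso {G H : Over SK} [GrpObj H] (f : G ⟶ H) : Prop :=
  (∀ b : PT ⟶ H, ∃ a : PT ⟶ G, a ≫ f = b) ∧ {a : PT ⟶ G | a ≫ f = 1}.Finite

theorem finite_fibre {G H : Over SK} [GrpObj G] [GrpObj H] (f : G ⟶ H) [IsMonHom f]
    (hf : {a : PT ⟶ G | a ≫ f = 1}.Finite) (b : PT ⟶ H) : {a : PT ⟶ G | a ≫ f = b}.Finite := by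
  rcases Set.eq_empty_or_nonempty {a : PT ⟶ G | a ≫ f = b} with h | ⟨a₀, h₀⟩
  · rw [h]; exact Set.finite_empty
  refine (hf.image (fun c => a₀ * c)).subset fun a ha => ⟨a₀⁻¹ * a, ?_, mul_inv_cancel_left _ _⟩
  show (a₀⁻¹ * a) ≫ f = 1
  have h₀' : a₀ ≫ f = b := h₀
  have ha' : a ≫ f = b := ha
  rw [MonObj.mul_comp, GrpObj.inv_comp, h₀', ha', inv_mul_cancel]

theorem PtIso.comp {G H K : Over SK} [GrpObj G] [GrpObj H] [GrpObj K] {f : G ⟶ H} [IsMonHom f] {g : H ⟶ K}
    (hf : PtIso f) (hg : PtIso g) : PtIso (f ≫ g) := by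
  refine ⟨fun b => ?_, ?_⟩
  · obtain ⟨c, rfl⟩ := hg.1 b
    obtain ⟨a, rfl⟩ := hf.1 c
    exact ⟨a, (Category.assoc _ _ _).symm⟩
  · refine (hg.2.biUnion fun c _ => finite_fibre f hf.2 c).subset fun a ha => ?_
    simp only [Set.mem_iUnion, Set.mem_setOf_eq]
    exact ⟨a ≫ f, by rw [Category.assoc]; exact ha, rfl⟩

theorem ptIso_id {G : Over SK} [GrpObj G] : PtIso (𝟙 G) :=
  ⟨fun b => ⟨b, Category.comp_id b⟩, (Set.finite_singleton (1 : PT ⟶ G)).subset fun a ha => by
    simpa using ha⟩

variable [IsAlgClosed k]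

/-- A scheme of finite type with finitely many rational points is finite. -/
theorem isFinite_of_finite_pts (N : Over SK) [LocallyOfFiniteType N.hom] [QuasiCompact N.hom]
    (h : (Set.univ : Set (PT ⟶ N)).Finite) : IsFinite N.hom := by
  haveI : JacobsonSpace N.left := LocallyOfFiniteType.jacobsonSpace N.hom
  have hcl : (closedPoints N.left).Finite := by
    refine (h.image fun b => b.left (IsLocalRing.closedPoint k)).subset fun x hx => ?_
    exact ⟨Over.homMk (pointOfClosedPoint N.hom x hx) (pointOfClosedPoint_comp _ _ _), trivial, by simp⟩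
  have huniv : closedPoints N.left = Set.univ := by
    rw [← closure_closedPoints (X := N.left), IsClosed.closure_eq]
    rw [← Set.biUnion_of_singleton (closedPoints N.left)]
    exact hcl.isClosed_biUnion fun x hx => hx
  haveI : LocallyQuasiFinite N.hom :=
    LocallyQuasiFinite.of_finite_preimage_singleton N.hom fun x => (huniv ▸ hcl).subset (Set.subset_univ _)
  exact IsFinite.of_locallyQuasiFinite N.hom

/-- A finite scheme has finitely many rational points. -/
theorem finite_pts (N : Over SK) [IsFinite N.hom] : Finite (PT ⟶ N) := by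
  haveI : Finite N.left := by
    have h := N.hom.finite_preimage_singleton (IsLocalRing.closedPoint k)
    refine Set.finite_univ_iff.1 (h.subset fun x _ => Subsingleton.elim (α := ↥(Spec (CommRingCat.of k))) _ _)
  refine Finite.of_injective (fun b : PT ⟶ N => b.left (IsLocalRing.closedPoint k)) fun a b h => ?_
  refine Over.OverMorphism.ext ?_
  exact ext_of_apply_closedPoint_eq N.hom (Over.w a) (Over.w b) h

theorem isClosedImmersion_of_kernel {N G H : Over SK} [GrpObj H] [IsSeparated H.hom] {i : N ⟶ G} {f : G ⟶ H}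
    (hi : AlgGrp.IsKernel i f) : IsClosedImmersion i.left := by
  haveI : IsClosedImmersion (η[H] : 𝟙_ _ ⟶ H).left :=
    isClosedImmersion_of_comp_eq_id H.hom _ (Over.w (η[H] : 𝟙_ _ ⟶ H))
  exact MorphismProperty.of_isPullback (P := @IsClosedImmersion) (hi.map (Over.forget _)).flip ‹_›

theorem PtIso.surjective {G H : Over SK} [GrpObj H] [LocallyOfFiniteType G.hom] [QuasiCompact G.hom]
    [LocallyOfFiniteType H.hom] [QuasiCompact H.hom] {f : G ⟶ H} (hf : PtIso f) : Surjective f.left := by
  haveI : IsSeparated H.hom := Groth.Agent.GrpField.isSeparated_grp (G := H)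
  exact SemiAbLib.surjective_of_pts f hf.1

theorem PtIso.isogeny {G H : Over SK} [GrpObj H] [LocallyOfFiniteType G.hom] [QuasiCompact G.hom]
    [LocallyOfFiniteType H.hom] [QuasiCompact H.hom] {f : G ⟶ H} (hf : PtIso f) : SGA7.IsIsogenyOver f := by
  refine ⟨hf.surjective, fun N i hi => ?_⟩
  haveI : IsSeparated H.hom := Groth.Agent.GrpField.isSeparated_grp (G := H)
  haveI := isClosedImmersion_of_kernel hi
  haveI : Mono i := (Over.forget _).mono_of_mono_map (inferInstanceAs (Mono i.left))
  haveI : LocallyOfFiniteType N.hom := by rw [← Over.w i]; infer_instance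
  haveI : QuasiCompact N.hom := by rw [← Over.w i]; infer_instance
  refine isFinite_of_finite_pts N (Set.Finite.of_finite_image (f := fun b => b ≫ i) (hf.2.subset ?_)
    fun b _ c _ h => (cancel_mono i).1 h)
  rintro _ ⟨b, -, rfl⟩
  show (b ≫ i) ≫ f = 1
  rw [Category.assoc, hi.w, ← Category.assoc, toUnit_unique (b ≫ toUnit N) (toUnit _), ← Hom.one_def]

theorem PtIso.of_isogeny {G H : Over SK} [GrpObj H] [LocallyOfFiniteType G.hom]
    [LocallyOfFiniteType H.hom] {f : G ⟶ H} (hf : SGA7.IsIsogenyOver f) : PtIso f := by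
  haveI : IsSeparated H.hom := Groth.Agent.GrpField.isSeparated_grp (G := H)
  haveI := hf.1
  have hk : AlgGrp.IsKernel (pullback.fst f η[H]) f := by
    have h := IsPullback.of_hasPullback f η[H]
    rwa [toUnit_unique (pullback.snd f η[H]) (toUnit _)] at h
  haveI := hf.2 _ _ hk
  haveI := finite_pts (pullback f η[H])
  refine ⟨AVAmpleLib.exists_pt_lift f, (Set.finite_range fun b : PT ⟶ pullback f η[H] => b ≫ pullback.fst f η[H]).subset
    fun a ha => ⟨pullback.lift a (toUnit _) (ha.trans Hom.one_def), pullback.lift_fst _ _ _⟩⟩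

/-- Surjective homomorphisms with finite kernel preserve the dimension. -/
theorem PtIso.dim_eq {G H : Over SK} [GrpObj G] [GrpObj H] [Smooth G.hom] [QuasiCompact G.hom]
    [ConnectedSpace G.left] [Smooth H.hom] [QuasiCompact H.hom] [ConnectedSpace H.left] {f : G ⟶ H} [IsMonHom f]
    (hf : PtIso f) : topologicalKrullDim G.left = topologicalKrullDim H.left := by
  haveI := hf.surjective
  haveI := AlbLib.geometricallyIntegral_grp G
  haveI := AlbLib.geometricallyIntegral_grp H
  haveI : IsIntegral G.left := GeometricallyIntegral.isIntegral_of_subsingleton G.hom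
  haveI : IsIntegral H.left := GeometricallyIntegral.isIntegral_of_subsingleton H.hom
  haveI : IsSeparated H.hom := Groth.Agent.GrpField.isSeparated_grp (G := H)
  haveI : Flat f.left := AntiAffLib.flat_of_surjective f
  haveI : LocallyOfFinitePresentation f.left := AntiAffLib.lfp_of_lft f
  haveI : IsSeparated G.hom := Groth.Agent.GrpField.isSeparated_grp (G := G)
  have hk : AlgGrp.IsKernel (pullback.fst f η[H]) f := by
    have h := IsPullback.of_hasPullback f η[H]
    rwa [toUnit_unique (pullback.snd f η[H]) (toUnit _)] at h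
  haveI : IsFinite (pullback f η[H]).hom := hf.isogeny.2 _ _ hk
  haveI : QuasiCompact f.left := WittGrpLib.quasiCompact_left f
  haveI : LocallyOfFiniteType f.left := Groth.Agent.GrpHom.lft_left f
  haveI : JacobsonSpace G.left := LocallyOfFiniteType.jacobsonSpace G.hom
  let y₀ := (η[H] : PT ⟶ H).left (IsLocalRing.closedPoint k)
  have hy₀ : IsClosed ({y₀} : Set H.left) := by
    haveI : IsClosedImmersion (η[H] : 𝟙_ _ ⟶ H).left :=
      isClosedImmersion_of_comp_eq_id H.hom _ (Over.w (η[H] : 𝟙_ _ ⟶ H))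
    haveI : Subsingleton ↥(𝟙_ (Over SK)).left := inferInstanceAs (Subsingleton (PrimeSpectrum k))
    convert (η[H] : 𝟙_ _ ⟶ H).left.isClosedEmbedding.isClosed_range using 1
    exact Set.ext fun z => ⟨fun hz => ⟨_, hz.symm⟩, fun ⟨w, hw⟩ => by rw [← hw, Subsingleton.elim w]; rfl⟩
  have hS : IsClosed (f.left ⁻¹' {y₀}) := hy₀.preimage f.left.continuous
  have hcl : (f.left ⁻¹' {y₀} ∩ closedPoints G.left).Finite := by
    refine (hf.2.image fun a => a.left (IsLocalRing.closedPoint k)).subset ?_
    rintro z ⟨hz, hz'⟩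
    refine ⟨Over.homMk (U := PT) (pointOfClosedPoint G.hom z hz') (pointOfClosedPoint_comp _ _ _), ?_, by simp⟩
    refine (Over.OverMorphism.ext (ext_of_apply_closedPoint_eq H.hom (Over.w _) (Over.w _) ?_)).trans Hom.one_def.symm
    show ((Over.homMk (U := PT) (pointOfClosedPoint G.hom z hz') (pointOfClosedPoint_comp _ _ _)).left ≫ f.left) _ = ((toUnit PT).left ≫ η[H].left) _
    rw [toUnit_unique (toUnit PT) (𝟙 _), Over.id_left, Category.id_comp, Scheme.Hom.comp_apply]
    simpa [y₀] using hz
  have hSc : f.left ⁻¹' {y₀} ⊆ closedPoints G.left := by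
    have h1 : closure (f.left ⁻¹' {y₀} ∩ closedPoints G.left) = closure (f.left ⁻¹' {y₀}) :=
      JacobsonSpace.closure_inter_closedPoints_eq_closure hS.isLocallyClosed
    have h2 : IsClosed (f.left ⁻¹' {y₀} ∩ closedPoints G.left) := by
      rw [← Set.biUnion_of_singleton (f.left ⁻¹' {y₀} ∩ closedPoints G.left)]
      exact hcl.isClosed_biUnion fun x hx => hx.2
    rw [h2.closure_eq, hS.closure_eq] at h1
    exact fun z hz => (h1.symm ▸ hz : z ∈ f.left ⁻¹' {y₀} ∩ closedPoints G.left).2
  have hSf : (f.left ⁻¹' {y₀}).Finite := hcl.subset fun z hz => ⟨hz, hSc hz⟩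
  let x₀ := (η[G] : PT ⟶ G).left (IsLocalRing.closedPoint k)
  have hx₀ : f.left x₀ = y₀ := by
    show ((η[G] : PT ⟶ G).left ≫ f.left) _ = _
    rw [← Over.comp_left, IsMonHom.one_hom]
  have hqf : f.left.QuasiFiniteAt x₀ := by
    rw [Scheme.Hom.quasiFiniteAt_iff_isOpen_singleton_asFiber]
    haveI : Finite ↥(f.left ⁻¹' {f.left x₀}) := (hx₀ ▸ hSf).to_subtype
    haveI : T1Space ↥(f.left ⁻¹' {f.left x₀}) := ⟨fun z => by
      have hz : IsClosed ({z.1} : Set G.left) := hSc (hx₀ ▸ z.2 : z.1 ∈ f.left ⁻¹' {y₀})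
      convert hz.preimage continuous_subtype_val using 1
      exact Set.ext fun w => ⟨fun h => by rw [h]; rfl, fun h => Subtype.ext h⟩⟩
    haveI : DiscreteTopology ↥(f.left ⁻¹' {f.left x₀}) := DiscreteTopology.of_finite_of_isClosed_singleton (by exact fun z => isClosed_singleton)
    haveI := (f.left.fiberHomeo (f.left x₀)).symm.discreteTopology
    exact isOpen_discrete _
  haveI : LocallyQuasiFinite f.left := Groth.Agent.GrpHom.lqf_of_quasiFiniteAt f x₀ hqf
  obtain ⟨x⟩ : Nonempty G.left := inferInstance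
  have e := FibDimLib.localDim_eq_add_fibreDimAt H.hom f.left x
  rw [FibDimLib.localDim_of_irreducible G.hom x, FibDimLib.localDim_of_irreducible H.hom (f.left x),
    AlgSpLib.lqf_iff_fibreDimAt_eq_zero f.left |>.1 ‹_› x, add_zero] at e
  exact e

end UnipStruct
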