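import Groth.Agent.UnipStructLib.Main
import Groth.Agent.S12186
import Groth.Agent.UOpenLib.FibreDim
import Mathlib.RingTheory.KrullDimension.Polynomial

/-!
The isogeny relation between unipotent groups and products of Witt groups is symmetric; the period.
-/

set_option autoImplicit false
set_option linter.style.haveILetI false
set_option backward.isDefEq.respectTransparency false
set_option maxHeartbeats 1000000

noncomputable section

universe u

open CategoryTheory CategoryTheory.Limits MonoidalCategory CartesianMonoidalCategory MonObj AlgebraicGeometry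
open WittGrp WittGrpLib WittExtLib
open Groth.Agent

namespace UnipStruct

variable {p : ℕ} [Fact p.Prime] {k : Type u} [Field k] [IsAlgClosed k] [CharP k p]

local notation "SK" => Spec (CommRingCat.of k)
local notation "PT" => 𝟙_ (Over (Spec (CommRingCat.of k)))

theorem exists_dim (G : Over SK) [GrpObj G] [Smooth G.hom] [ConnectedSpace ↥G.left] [IsAffine G.left] :
    ∃ n : ℕ, topologicalKrullDim ↥G.left = n := by
  haveI : QuasiCompact G.hom := inferInstance
  haveI := AlbLib.geometricallyIntegral_grp G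
  haveI : IsIntegral G.left := GeometricallyIntegral.isIntegral_of_subsingleton G.hom
  obtain ⟨x⟩ : Nonempty G.left := inferInstance
  obtain ⟨m, hm⟩ := UOpenLib.exists_fibreDimAt_eq_nat G.hom x
  refine ⟨m, ?_⟩
  rw [← hm, AlgSpLib.fibreDimAt_eq_localDim, FibDimLib.localDim_of_irreducible G.hom x]

/-- Unipotent groups are killed by a power of the characteristic. -/
theorem exists_killed (G : Over SK) [GrpObj G] [IsCommMonObj G] [Smooth G.hom] [ConnectedSpace ↥G.left]
    [IsAffine G.left] (hG : Red.HasNoSubtorus k G) : ∃ M : ℕ, (𝟙 G) ^ (p ^ M) = 1 := by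
  obtain ⟨n, hn⟩ := exists_dim G
  exact ⟨n, Groth.Agent.S12186.result p k G hG n hn⟩

/-- An isogeny out of a product of Witt groups has one in the other direction. -/
theorem exists_reverse {r : ℕ} {nn : Fin r → ℕ} {P : Over SK} [GrpObj P] {proj : ∀ j, P ⟶ W p (nn j) SK}
    [∀ j, IsMonHom (proj j)] (hP : IsLimit (Fan.mk P proj)) {G : Over SK} [GrpObj G] [IsCommMonObj G]
    [Smooth G.hom] [ConnectedSpace ↥G.left] [IsAffine G.left] (g : P ⟶ G) [IsMonHom g] (hg : PtIso g) :
    ∃ f : G ⟶ P, IsMonHom f ∧ PtIso f := by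
  obtain ⟨hPs, hPc, hPa⟩ := props_prod hP
  haveI := hPs; haveI := hPc; haveI := hPa
  haveI : QuasiCompact G.hom := inferInstance
  haveI : QuasiCompact P.hom := inferInstance
  haveI : IsSeparated G.hom := inferInstance
  haveI : IsReduced G.left := AlgSpLib.isReduced_of_smooth G.hom
  haveI := hg.surjective
  haveI : Flat g.left := AntiAffLib.flat_of_surjective g
  haveI : LocallyOfFinitePresentation g.left := AntiAffLib.lfp_of_lft g
  have hk : AlgGrp.IsKernel (pullback.fst g η[G]) g := by
    have h := IsPullback.of_hasPullback g η[G]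
    rwa [toUnit_unique (pullback.snd g η[G]) (toUnit _)] at h
  haveI : IsFinite (pullback g η[G]).hom := hg.isogeny.2 _ _ hk
  haveI := finite_pts (pullback g η[G])
  obtain ⟨Φ, hΦm, hΦ, hvΦ⟩ := exists_kill_prod hP (pullback.fst g η[G])
  haveI := hΦm
  obtain ⟨f, hf, hfm⟩ := AntiAffLib.CommCat.exists_descend g Φ fun T a ha => by
    obtain ⟨l, rfl⟩ := AntiAffLib.exists_lift_kernel hk a ha
    rw [Category.assoc, hvΦ, MonObj.comp_one]
  refine ⟨f, hfm, fun b => ?_, (hΦ.2.image fun x => x ≫ g).subset fun a ha => ?_⟩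
  · obtain ⟨x, rfl⟩ := hΦ.1 b
    exact ⟨x ≫ g, by rw [Category.assoc, hf]⟩
  · obtain ⟨x, rfl⟩ := hg.1 a
    refine ⟨x, ?_, rfl⟩
    show x ≫ Φ = 1
    rw [← hf, ← Category.assoc]; exact ha

theorem dim_W (n : ℕ) : topologicalKrullDim ↥(W p n SK).left = n := by
  show topologicalKrullDim ↥(𝔸(ULift.{u} (Fin n); Spec (CommRingCat.of k))) = n
  rw [(AffineSpace.SpecIso (ULift.{u} (Fin n)) (CommRingCat.of k)).hom.homeomorph.isHomeomorph.topologicalKrullDim_eq]
  show topologicalKrullDim (PrimeSpectrum (MvPolynomial (ULift.{u} (Fin n)) k)) = n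
  rw [PrimeSpectrum.topologicalKrullDim_eq_ringKrullDim, MvPolynomial.ringKrullDim_of_isNoetherianRing,
    ringKrullDim_eq_zero_of_field, zero_add, Nat.card_eq_fintype_card, Fintype.card_ulift, Fintype.card_fin]

/-- A group covered by an isogeny from a Witt group of length `n` has period `p ^ n`. -/
theorem period_of_cover {n : ℕ} {G : Over SK} [GrpObj G] [IsCommMonObj G] [Smooth G.hom] [IsSeparated G.hom]
    (f : W p n SK ⟶ G) [IsMonHom f] (hf : PtIso f) (m : ℕ) : (𝟙 G) ^ (p ^ m) = 1 ↔ n ≤ m := by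
  haveI : IsReduced G.left := AlgSpLib.isReduced_of_smooth G.hom
  refine ⟨fun h => ?_, fun h => AVAmpleLib.hom_ext_of_points _ _ fun b => ?_⟩
  · by_contra hlt
    have hinj : Function.Injective fun c : k => (evEquiv.symm
        ((p ^ m) • TruncatedWittVector.mk p fun _ : Fin n => c) : PT ⟶ W p n SK) := fun a b e => by
      have h1 := congrArg (fun v => v.coeff (⟨m, by omega⟩ : Fin n)) (evEquiv.symm.injective e)
      simp only [coeff_pow_nsmul, le_refl, if_true, TruncatedWittVector.coeff_mk] at h1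
      exact (iterateFrobeniusEquiv k p m).injective (by
        rw [iterateFrobeniusEquiv_def, iterateFrobeniusEquiv_def]; exact h1)
    have hsub : Set.range (fun c : k => (evEquiv.symm
        ((p ^ m) • TruncatedWittVector.mk p fun _ : Fin n => c) : PT ⟶ W p n SK)) ⊆
        {a | a ≫ f = 1} := by
      rintro _ ⟨c, rfl⟩
      show evEquiv.symm _ ≫ f = 1
      have e : (evEquiv.symm ((p ^ m) • TruncatedWittVector.mk p fun _ : Fin n => c) : PT ⟶ W p n SK) =
          (evEquiv.symm (TruncatedWittVector.mk p fun _ : Fin n => c)) ^ (p ^ m) :=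
        ev_injective (by rw [ev_evEquiv_symm, ev_pow, ev_evEquiv_symm])
      rw [e, MonObj.pow_comp, ← Category.comp_id (evEquiv.symm (TruncatedWittVector.mk p fun _ : Fin n => c) ≫ f),
        ← MonObj.comp_pow, h, MonObj.comp_one]
    exact (Set.infinite_range_of_injective hinj) (hf.2.subset hsub)
  · obtain ⟨a, rfl⟩ := hf.1 b
    rw [MonObj.comp_pow, Category.comp_id, ← MonObj.pow_comp, MonObj.comp_one,
      show a ^ (p ^ m) = 1 from ev_injective (by rw [ev_pow, nsmul_eq_zero _ h, ev_one]), MonObj.one_comp]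

/-- A unipotent group of dimension and period `n` is isogenous to the Witt group of length `n`. -/
theorem exists_isogeny_W {n : ℕ} (G : Over SK) [GrpObj G] [IsCommMonObj G] [Smooth G.hom] [ConnectedSpace ↥G.left]
    [IsAffine G.left] (hdim : topologicalKrullDim ↥G.left = n) (hper : ∀ m : ℕ, (𝟙 G) ^ (p ^ m) = 1 ↔ n ≤ m) :
    ∃ f : G ⟶ W p n SK, IsMonHom f ∧ PtIso f := by
  classical
  haveI : QuasiCompact G.hom := inferInstance
  haveI : IsSeparated G.hom := inferInstance
  rcases Nat.eq_zero_or_pos n with rfl | hn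
  · have h1 := (hper 0).2 le_rfl
    rw [pow_zero, pow_one] at h1
    refine ⟨1, isMonHom_one, fun b => ⟨1, hom_W_zero _ _⟩, (Set.finite_singleton (1 : PT ⟶ G)).subset fun a _ => ?_⟩
    show a = 1
    rw [← Category.comp_id a, h1, MonObj.comp_one]
  obtain ⟨r, nn, P, _, proj, hproj, ⟨hP⟩, g, hgm, hg⟩ := hasCover G n ((hper n).2 le_rfl)
  haveI := hproj; haveI := hgm
  haveI : IsCommMonObj P := isCommMonObj_prod hP
  obtain ⟨hPs, hPc, hPa⟩ := props_prod hP
  haveI := hPs; haveI := hPc; haveI := hPa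
  haveI : IsReduced G.left := AlgSpLib.isReduced_of_smooth G.hom
  obtain ⟨j, hj⟩ : ∃ j, n ≤ nn j := by
    by_contra hne
    push_neg at hne
    have hk := killed_prod hP (n - 1) fun j => by have := hne j; omega
    have : (𝟙 G) ^ (p ^ (n - 1)) = 1 := AVAmpleLib.hom_ext_of_points _ _ fun b => by
      obtain ⟨a, rfl⟩ := hg.1 b
      rw [MonObj.comp_pow, Category.comp_id, ← MonObj.pow_comp, ← Category.comp_id a, ← MonObj.comp_pow, hk,
        MonObj.comp_one, MonObj.one_comp, MonObj.comp_one]
    have := (hper _).1 this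
    omega
  obtain ⟨f', hf'm, hf'⟩ := exists_reverse hP g hg
  haveI := hf'm
  let f : G ⟶ W p n SK := f' ≫ proj j ≫ R p SK hj
  have hfs : ∀ b : PT ⟶ W p n SK, ∃ a : PT ⟶ G, a ≫ f = b := fun b => by
    obtain ⟨e, -, he, -⟩ := exists_incl hP j
    obtain ⟨a, ha⟩ := hf'.1 (evEquiv.symm (pad hj (ev b)) ≫ e)
    refine ⟨a, ev_injective ?_⟩
    simp only [f]
    rw [← Category.assoc a, ha, Category.assoc, ← Category.assoc e, he, Category.id_comp, ev_R, ev_evEquiv_symm,
      truncate_pad]
  haveI : IsAffine (W p n SK).left := isAffine_W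
  haveI : ConnectedSpace ↥(W p n SK).left := by
    haveI : IrreducibleSpace ↥(Spec (CommRingCat.of k)) := inferInstanceAs (IrreducibleSpace (PrimeSpectrum k))
    haveI : IrreducibleSpace (W p n SK).left :=
      inferInstanceAs (IrreducibleSpace 𝔸(ULift.{u} (Fin n); Spec (CommRingCat.of k)))
    infer_instance
  haveI : QuasiCompact (W p n SK).hom := inferInstance
  haveI : Surjective f.left := SemiAbLib.surjective_of_pts f hfs
  haveI := SemiAbLib.isFinite_of_surjective_of_dim f (hdim.trans (dim_W n).symm)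
  refine ⟨f, inferInstance, PtIso.of_isogeny ⟨inferInstance, fun N i hi => ?_⟩⟩
  have h3 : IsFinite (toUnit N).left := MorphismProperty.of_isPullback (P := @IsFinite) (hi.map (Over.forget _)) ‹_›
  rw [← Over.w (toUnit N)]
  haveI : IsIso (𝟙_ (Over SK)).hom := inferInstanceAs (IsIso (𝟙 _))
  exact inferInstanceAs (IsFinite ((toUnit N).left ≫ (𝟙_ (Over SK)).hom))

/-- An isogeny out of a unipotent group has one in the other direction. -/
theorem exists_back {G X : Over SK} [GrpObj G] [IsCommMonObj G] [Smooth G.hom] [ConnectedSpace ↥G.left]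
    [IsAffine G.left] [GrpObj X] [IsCommMonObj X] [Smooth X.hom] [ConnectedSpace ↥X.left] [IsAffine X.left]
    (M : ℕ) (hM : (𝟙 G) ^ (p ^ M) = 1) (h : G ⟶ X) [IsMonHom h] (hh : PtIso h) :
    ∃ f : X ⟶ G, IsMonHom f ∧ PtIso f := by
  obtain ⟨r, nn, P, _, proj, hproj, ⟨hP⟩, g, hgm, hg⟩ := hasCover G M hM
  haveI := hproj; haveI := hgm
  obtain ⟨f', hf'm, hf'⟩ := exists_reverse hP (g ≫ h) (hg.comp hh)
  haveI := hf'm
  exact ⟨f' ≫ g, inferInstance, hf'.comp hg⟩

end UnipStruct
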