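import Groth.Agent.UnipStructLib.Lift

/-!
Isogenies from products of Witt groups onto an extension by the additive group.
-/

set_option autoImplicit false
set_option linter.style.haveILetI false
set_option backward.isDefEq.respectTransparency false
set_option maxHeartbeats 1000000

noncomputable section

universe u

open CategoryTheory CategoryTheory.Limits MonoidalCategory CartesianMonoidalCategory MonObj AlgebraicGeometry
open WittGrp WittGrpLib WittExtLib
open Groth.Agent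

namespace UnipStruct

variable {p : ℕ} [Fact p.Prime] {k : Type u} [Field k] [IsAlgClosed k] [CharP k p]

local notation "SK" => Spec (CommRingCat.of k)
local notation "PT" => 𝟙_ (Over (Spec (CommRingCat.of k)))

theorem rearr₁ {A : Type*} [CommGroup A] (a b c a' b' c' : A) :
    a * b⁻¹ * c * (a' * b'⁻¹ * c') = a * a' * (b * b')⁻¹ * (c * c') := by
  rw [mul_inv]; ac_rfl

theorem rearr₂ {A : Type*} [CommGroup A] (a b w z v : A) :
    a * (w * (z / v)) * (b * w)⁻¹ * v = a * b⁻¹ * z := by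
  rw [mul_inv, div_eq_mul_inv]
  calc a * (w * (z * v⁻¹)) * (b⁻¹ * w⁻¹) * v = a * b⁻¹ * z * (w * w⁻¹) * (v⁻¹ * v) := by ac_rfl
    _ = a * b⁻¹ * z := by rw [mul_inv_cancel, inv_mul_cancel, _root_.mul_one, _root_.mul_one]

variable {G : Over (Spec (CommRingCat.of k))} [GrpObj G] [IsCommMonObj G] [Smooth G.hom] [IsSeparated G.hom]
  {Q : Over (Spec (CommRingCat.of k))} [GrpObj Q]
  (i : W p 1 (Spec (CommRingCat.of k)) ⟶ G) [IsMonHom i] (q : G ⟶ Q) [IsMonHom q]

/-- The image of a vector of length one. -/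
def inc (w : TruncatedWittVector p 1 k) : PT ⟶ G := evEquiv.symm w ≫ i

theorem inc_add (v w : TruncatedWittVector p 1 k) : inc i (v + w) = inc i v * inc i w := by
  simp only [inc]
  rw [← MonObj.mul_comp]
  congr 1
  refine evEquiv.symm_apply_eq.2 ?_
  rw [evEquiv_apply, ev_mul, ev_evEquiv_symm, ev_evEquiv_symm]

theorem inc_zero : inc i (0 : TruncatedWittVector p 1 k) = 1 := by
  have h := inc_add i (0 : TruncatedWittVector p 1 k) 0
  rw [add_zero] at h
  exact left_eq_mul.1 h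

theorem inc_q (hker : AlgGrp.IsKernel i q) (w : TruncatedWittVector p 1 k) : inc i w ≫ q = 1 := by
  rw [inc, Category.assoc, hker.w, ← Category.assoc, toUnit_unique (evEquiv.symm w ≫ toUnit _) (toUnit _),
    ← Hom.one_def]

theorem exists_inc_eq (hker : AlgGrp.IsKernel i q) (b : PT ⟶ G) (hb : b ≫ q = 1) : ∃ w, inc i w = b := by
  refine ⟨ev (hker.lift b (toUnit _) (by rw [hb, Hom.one_def])), ?_⟩
  rw [inc, evEquiv_symm_ev, hker.lift_fst]

theorem inc_injective (hker : AlgGrp.IsKernel i q) {v w : TruncatedWittVector p 1 k} (h : inc i v = inc i w) :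
    v = w := by
  have h1 : evEquiv.symm v = evEquiv.symm w := hker.hom_ext h (toUnit_unique _ _)
  simpa using congrArg evEquiv h1

/-- A lifted homomorphism: one step longer, with its multiplier. -/
def IsLiftSucc (n : ℕ) (h : W p n SK ⟶ Q) (φ : k →+ k) (g : W p (n + 1) SK ⟶ G) : Prop :=
  g ≫ q = R p SK (Nat.le_add_right n 1) ≫ h ∧
    ∀ t : PT ⟶ W p 1 SK, t ≫ V p SK (Nat.le_add_left 1 n) ≫ g = evEquiv.symm (vec1 φ (ev t)) ≫ i

theorem liftSucc_pad_mul {n : ℕ} {h : W p n SK ⟶ Q} {φ : k →+ k} {g : W p (n + 1) SK ⟶ G} [IsMonHom g]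
    (hg : IsLiftSucc i q n h φ g) (a b : TruncatedWittVector p n k) :
    (evEquiv.symm (pad (Nat.le_add_right n 1) a) ≫ g) * (evEquiv.symm (pad (Nat.le_add_right n 1) b) ≫ g) =
      (evEquiv.symm (pad (Nat.le_add_right n 1) (a + b)) ≫ g) * inc i (one1 (φ (Cn n a b))) := by
  rw [← MonObj.mul_comp]
  have h1 : inc i (one1 (φ (Cn n a b))) =
      evEquiv.symm (emb n (Cn n a b)) ≫ g := by
    have h2 := hg.2 (evEquiv.symm (one1 (Cn n a b)))
    rw [ev_evEquiv_symm, ← Category.assoc] at h2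
    have e : evEquiv.symm (one1 (Cn n a b)) ≫ V p SK (Nat.le_add_left 1 n) = evEquiv.symm (emb n (Cn n a b)) := by
      refine ev_injective ?_
      rw [ev_V, ev_evEquiv_symm, ev_evEquiv_symm, emb_eq_shift]
    rw [e] at h2
    rw [h2, inc]
    congr 2
  rw [h1, ← MonObj.mul_comp]
  congr 1
  refine ev_injective ?_
  rw [ev_mul, ev_mul, ev_evEquiv_symm, ev_evEquiv_symm, ev_evEquiv_symm, ev_evEquiv_symm, pad_add_pad]

variable (hker : AlgGrp.IsKernel i q)
include hker

/-- Lifts of endomorphisms corrected by a homomorphism to the longer group. -/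
theorem exists_L {n n₀ : ℕ} {h : W p n SK ⟶ Q} {φ : k →+ k} {g : W p (n + 1) SK ⟶ G} [IsMonHom g]
    (hg : IsLiftSucc i q n h φ g) {h₀ : W p n₀ SK ⟶ Q} {φ₀ : k →+ k} {g₀ : W p (n₀ + 1) SK ⟶ G} [IsMonHom g₀]
    (hg₀ : IsLiftSucc i q n₀ h₀ φ₀ g₀) (F : W p n SK ⟶ W p n SK) [IsMonHom F] (et : W p n SK ⟶ W p n₀ SK)
    [IsMonHom et] {J : TruncatedWittVector p n k → k} (hJ : J ∈ Rg (c1 p k n))
    (heq : ∀ a b, φ (Cn n (evHom F a) (evHom F b)) - φ₀ (Cn n₀ (evHom et a) (evHom et b)) = cob J a b) :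
    ∃ L : W p n SK ⟶ G, IsMonHom L ∧
      ∀ x : PT ⟶ W p n SK, x ≫ L ≫ q = (x ≫ F ≫ h) * (x ≫ et ≫ h₀)⁻¹ := by
  obtain ⟨P, hP⟩ := exists_hom_of_regMap ((isRegMap_id (p := p) (k := k) (n := n)).pad (Nat.le_add_right n 1))
  obtain ⟨P₀, hP₀⟩ := exists_hom_of_regMap ((isRegMap_id (p := p) (k := k) (n := n₀)).pad (Nat.le_add_right n₀ 1))
  obtain ⟨J', hJ'⟩ := exists_hom_of_regMap (isRegMap_one1 (p := p) hJ)
  let L : W p n SK ⟶ G := (F ≫ P ≫ g) * (et ≫ P₀ ≫ g₀)⁻¹ * (J' ≫ i)
  have hL : ∀ x : PT ⟶ W p n SK, x ≫ L = (evEquiv.symm (pad (Nat.le_add_right n 1) (evHom F (ev x))) ≫ g) *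
      (evEquiv.symm (pad (Nat.le_add_right n₀ 1) (evHom et (ev x))) ≫ g₀)⁻¹ * inc i (one1 (J (ev x))) := fun x => by
    simp only [L, MonObj.comp_mul, GrpObj.comp_inv, inc]
    rw [evHom_ev, evHom_ev, ← hP, ← hP₀, ← hJ', evEquiv_symm_ev, evEquiv_symm_ev, evEquiv_symm_ev]
    simp only [Category.assoc]
  refine ⟨L, isMonHom_of_points L fun x y => ?_, fun x => ?_⟩
  · rw [hL, hL, hL, ev_mul, map_add, map_add]
    have e1 := liftSucc_pad_mul i q hg (evHom F (ev x)) (evHom F (ev y))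
    have e2 := liftSucc_pad_mul i q hg₀ (evHom et (ev x)) (evHom et (ev y))
    have e3 : inc i (one1 (φ (Cn n (evHom F (ev x)) (evHom F (ev y))))) =
        inc i (one1 (φ₀ (Cn n₀ (evHom et (ev x)) (evHom et (ev y))))) *
          (inc i (one1 (J (ev x + ev y))) / (inc i (one1 (J (ev x))) * inc i (one1 (J (ev y))))) := by
      rw [← mul_div_assoc, eq_div_iff_mul_eq', ← inc_add, ← inc_add, ← inc_add, ← map_add, ← map_add, ← map_add]
      congr 2
      have := heq (ev x) (ev y)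
      simp only [cob] at this
      linear_combination this
    letI : CommGroup (PT ⟶ G) := Hom.commGroup
    exact (((rearr₁ _ _ _ _ _ _).trans (by rw [e1, e2, e3])).trans (rearr₂ _ _ _ _ _)).symm
  · rw [← Category.assoc, hL, MonObj.mul_comp, MonObj.mul_comp, GrpObj.inv_comp, inc_q i q hker, _root_.mul_one,
      Category.assoc, hg.1, Category.assoc, hg₀.1, ← Category.assoc, ← Category.assoc]
    rw [show evEquiv.symm (pad (Nat.le_add_right n 1) (evHom F (ev x))) ≫ R p SK (Nat.le_add_right n 1) = x ≫ F from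
      ev_injective (by rw [ev_R, ev_evEquiv_symm, truncate_pad, evHom_ev]),
      show evEquiv.symm (pad (Nat.le_add_right n₀ 1) (evHom et (ev x))) ≫ R p SK (Nat.le_add_right n₀ 1) = x ≫ et from
      ev_injective (by rw [ev_R, ev_evEquiv_symm, truncate_pad, evHom_ev])]
    simp only [Category.assoc]

end UnipStruct
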