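import Groth.Agent.WittExtLib.Classify
import Groth.Agent.WittGrpLib.Isogeny
import Groth.Agent.WittExtLib.Ext

/-!
Right common multiples of additive polynomials, and the endomorphisms of Witt groups they induce.
-/

set_option autoImplicit false
set_option linter.style.haveILetI false
set_option backward.isDefEq.respectTransparency false
set_option maxHeartbeats 1000000

noncomputable section

universe u

open WittGrp WittExtLib

namespace UnipStruct

variable {p : ℕ} [Fact p.Prime] {k : Type u} [Field k] [CharP k p] [IsAlgClosed k]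

theorem addP_apply (N : ℕ) (c : ℕ → k) (t : k) :
    addP (p := p) N c t = ∑ i ∈ Finset.range N, c i * t ^ p ^ i := rfl

/-- The polynomial of an additive polynomial map. -/
def polyOf (p N : ℕ) (c : ℕ → k) : Polynomial k :=
  ∑ i ∈ Finset.range N, Polynomial.C (c i) * Polynomial.X ^ p ^ i

theorem eval_polyOf (N : ℕ) (c : ℕ → k) (t : k) :
    (polyOf p N c).eval t = addP (p := p) N c t := by
  simp [polyOf, addP_apply, Polynomial.eval_finsetSum]

theorem addP_eq_zero {N : ℕ} {c : ℕ → k} (h : addP (p := p) N c = 0) (i : ℕ) (hi : i < N) : c i = 0 := by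
  have h0 : polyOf p N c = 0 := Polynomial.funext fun t => by rw [eval_polyOf, h]; simp
  have h1 := congrArg (fun P => Polynomial.coeff P (p ^ i)) h0
  simp only [polyOf, Polynomial.finsetSum_coeff, Polynomial.coeff_C_mul_X_pow, Polynomial.coeff_zero] at h1
  rw [Finset.sum_eq_single i] at h1
  · simpa using h1
  · intro j _ hj
    rw [if_neg fun e => hj (Nat.pow_right_injective (Fact.out : p.Prime).two_le e).symm]
  · intro hi'
    exact absurd (Finset.mem_range.2 hi) hi'

/-- Non-zero additive polynomial maps are surjective with finite kernel. -/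
theorem addPoly_surj {φ : k →+ k} (hφ : IsAddPoly (p := p) φ) (h0 : φ ≠ 0) :
    Function.Surjective φ ∧ {t : k | φ t = 0}.Finite := by
  obtain ⟨N, c, hc⟩ := hφ
  have hQ : ∀ t, (polyOf p N c).eval t = φ t := fun t => by rw [eval_polyOf, addP_apply, hc]
  have hQ0 : polyOf p N c ≠ 0 := fun e => h0 (AddMonoidHom.ext fun t => by rw [← hQ, e]; simp)
  refine ⟨fun s => ?_, (Polynomial.finite_setOf_isRoot hQ0).subset fun t ht => ?_⟩
  · have hdeg : (polyOf p N c - Polynomial.C s).degree ≠ 0 := by
      intro e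
      have he := Polynomial.eq_C_of_degree_eq_zero e
      refine h0 (AddMonoidHom.ext fun t => ?_)
      have h1 := congrArg (fun P => Polynomial.eval t P) he
      have h2 := congrArg (fun P => Polynomial.eval 0 P) he
      simp only [Polynomial.eval_sub, Polynomial.eval_C, hQ, map_zero] at h1 h2
      have : φ t - s = 0 - s := h1.trans h2.symm
      simpa using this
    obtain ⟨t, ht⟩ := IsAlgClosed.exists_root _ hdeg
    exact ⟨t, by simpa [hQ, sub_eq_zero] using ht⟩
  · show (polyOf p N c).eval t = 0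
    rw [hQ]; exact ht

/-- Two additive polynomial maps have a common right multiple. -/
theorem exists_ore {φ φ₀ : k →+ k} (hφ : IsAddPoly (p := p) φ) (hφ₀ : IsAddPoly (p := p) φ₀) (h₀ : φ₀ ≠ 0) :
    ∃ χ χ₀ : k →+ k, IsAddPoly (p := p) χ ∧ IsAddPoly (p := p) χ₀ ∧ χ ≠ 0 ∧ ∀ t, φ (χ t) = φ₀ (χ₀ t) := by
  obtain ⟨N, a, ha⟩ := hφ
  obtain ⟨M, b, hb⟩ := hφ₀
  let L := N + M + 1
  let rt : ℕ → k → k := fun l => (iterateFrobeniusEquiv k p l).symm
  let coef : (ℕ → k) → ℕ → (Fin L → k) →ₗ[k] (Fin (N + M + L) → k) := fun a N =>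
    { toFun := fun d l => ∑ i ∈ Finset.range N, ∑ j : Fin L, if i + (j : ℕ) = (l : ℕ) then rt l (a i) * d j else 0
      map_add' := fun d d' => funext fun l => by
        simp only [Pi.add_apply, ← Finset.sum_add_distrib, mul_add]
        refine Finset.sum_congr rfl fun i _ => Finset.sum_congr rfl fun j _ => ?_
        split_ifs <;> simp
      map_smul' := fun r d => funext fun l => by
        simp only [Pi.smul_apply, smul_eq_mul, Finset.mul_sum, RingHom.id_apply]
        refine Finset.sum_congr rfl fun i _ => Finset.sum_congr rfl fun j _ => ?_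
        split_ifs <;> ring }
  let T : ((Fin L → k) × (Fin L → k)) →ₗ[k] (Fin (N + M + L) → k) :=
    (coef a N).comp (LinearMap.fst k _ _) - (coef b M).comp (LinearMap.snd k _ _)
  obtain ⟨⟨d, e⟩, hde, hne⟩ := (LinearMap.ker T).exists_mem_ne_zero_of_ne_bot
    (LinearMap.ker_ne_bot_of_finrank_lt (by simp [L] <;> omega))
  have hcomp : ∀ (a : ℕ → k) (Q : ℕ) (d : Fin L → k) (t : k), Q ≤ N + M →
      ∑ i ∈ Finset.range Q, a i * (∑ j : Fin L, (d j * t) ^ p ^ (j : ℕ)) ^ p ^ i =
        ∑ l : Fin (N + M + L), (coef a Q d l) ^ p ^ (l : ℕ) * t ^ p ^ (l : ℕ) := by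
    intro a Q d t hQ
    have hr : ∀ l : ℕ, ∀ x : k, rt l x ^ p ^ l = x := fun l x => by
      rw [← iterateFrobeniusEquiv_def (R := k), RingEquiv.apply_symm_apply]
    simp only [coef, LinearMap.coe_mk, AddHom.coe_mk, sum_pow_char_pow, Finset.mul_sum, Finset.sum_mul]
    rw [Finset.sum_comm (s := (Finset.univ : Finset (Fin (N + M + L))))]
    refine Finset.sum_congr rfl fun i hi => ?_
    rw [Finset.sum_comm (s := (Finset.univ : Finset (Fin (N + M + L))))]
    refine Finset.sum_congr rfl fun j _ => ?_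
    have hl : i + (j : ℕ) < N + M + L := by have := Finset.mem_range.1 hi; have := j.isLt; omega
    rw [Finset.sum_eq_single ⟨i + (j : ℕ), hl⟩]
    · rw [if_pos rfl]
      dsimp only
      rw [mul_pow (rt _ _), hr, mul_pow (d j), mul_pow, ← pow_mul, ← pow_mul, ← pow_add, add_comm (j : ℕ)]
      ring
    · intro l _ hl'
      rw [if_neg fun he => hl' (Fin.ext he.symm), zero_pow (pow_ne_zero _ (Fact.out : p.Prime).ne_zero), zero_mul]
    · intro hn; exact absurd (Finset.mem_univ _) hn
  let ex : (Fin L → k) → ℕ → k := fun d j => if hj : j < L then d ⟨j, hj⟩ ^ p ^ j else 0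
  have hex : ∀ (d : Fin L → k) (t : k), addP (p := p) L (ex d) t = ∑ j : Fin L, (d j * t) ^ p ^ (j : ℕ) := fun d t => by
    rw [addP_apply, ← Fin.sum_univ_eq_sum_range (fun j => ex d j * t ^ p ^ j) L]
    refine Finset.sum_congr rfl fun j _ => ?_
    simp [ex, mul_pow]
  have heq : ∀ t, φ (addP (p := p) L (ex d) t) = φ₀ (addP (p := p) L (ex e) t) := fun t => by
    rw [ha, hb, hex, hex, hcomp a N d t (by omega), hcomp b M e t (by omega)]
    refine Finset.sum_congr rfl fun l _ => ?_
    have h1 : coef a N d l = coef b M e l := sub_eq_zero.1 (congrFun (LinearMap.mem_ker.1 hde) l)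
    rw [h1]
  refine ⟨_, _, isAddPoly_addP L (ex d), isAddPoly_addP L (ex e), fun h => ?_, heq⟩
  have hd : d = 0 := funext fun j => by
    have := addP_eq_zero h j j.isLt
    simpa [ex, (Fact.out : p.Prime).ne_zero] using this
  have he : e ≠ 0 := fun he => hne (by rw [hd, he]; rfl)
  refine h₀ (AddMonoidHom.ext fun s => ?_)
  have hχ : addP (p := p) L (ex e) ≠ 0 := fun h' => he (funext fun j => by
    have := addP_eq_zero h' j j.isLt
    simpa [ex, (Fact.out : p.Prime).ne_zero] using this)
  obtain ⟨t, rfl⟩ := (addPoly_surj (isAddPoly_addP L (ex e)) hχ).1 s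
  rw [← heq, h]; simp

open CategoryTheory CategoryTheory.Limits MonoidalCategory CartesianMonoidalCategory MonObj AlgebraicGeometry in
/-- A homomorphism pushing a non-zero multiple of the Witt cocycle to the Witt cocycle is an isogeny. -/
theorem exists_push_isogeny (n : ℕ) {χ : k →+ k} (hχ : IsAddPoly (p := p) χ) (h0 : χ ≠ 0) :
    ∃ F : W p (n + 1) (Spec (CommRingCat.of k)) ⟶ W p (n + 1) (Spec (CommRingCat.of k)),
      IsMonHom F ∧ SGA7.IsIsogenyOver F ∧ ∃ F' : TruncatedWittVector p (n + 1) k →+ TruncatedWittVector p (n + 1) k,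
        IsRegMap (c1 p k (n + 1)) F' ∧ (∀ x, WittGrpLib.ev (x ≫ F) = F' (WittGrpLib.ev x)) ∧
        ∃ K ∈ Rg (c1 p k (n + 1)), ∀ a b, χ (Cn (n + 1) a b) = Cn (n + 1) (F' a) (F' b) + cob K a b := by
  obtain ⟨F', hF, K, hK, h⟩ := exists_push (le_refl (n + 1)) hχ
  obtain ⟨F, hFm, hF'⟩ := exists_monHom_of_regMap F' hF
  refine ⟨F, hFm, (WittGrpLib.isogeny_iff F).2 fun hz => h0 (AddMonoidHom.ext fun c => ?_), F', hF, hF', K, hK, h⟩
  have hz' : ∀ u, (F' u).coeff 0 = 0 := fun u => by
    obtain ⟨a, rfl⟩ := WittGrpLib.ev_surjective u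
    rw [← hF']; exact hz a
  have hK0 : K 0 = 0 := by
    have := h 0 0
    simp [cob, Cn_zero] at this
    linear_combination this
  let Ψ : TruncatedWittVector p (n + 1 + 1) k →+ TruncatedWittVector p (n + 1 + 1) k := AddMonoidHom.mk'
    (fun x => pad (Nat.le_add_right (n + 1) 1) (F' (TruncatedWittVector.truncate (Nat.le_add_right (n + 1) 1) x)) +
      emb (n + 1) (χ (last x) - K (TruncatedWittVector.truncate (Nat.le_add_right (n + 1) 1) x))) fun x y => by
      have hl := cob_last x y
      rw [cob, sub_eq_iff_eq_add, sub_eq_iff_eq_add] at hl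
      have e : ∀ a b, a = TruncatedWittVector.truncate (Nat.le_add_right (n + 1) 1) x →
          b = TruncatedWittVector.truncate (Nat.le_add_right (n + 1) 1) y →
          χ (last (x + y)) - K (a + b) = Cn (n + 1) (F' a) (F' b) + ((χ (last x) - K a) + (χ (last y) - K b)) := by
        intro a b ha hb
        rw [hl, ← ha, ← hb, map_add χ, map_add χ, h]
        simp only [cob]
        ring
      rw [map_add, map_add F', add_add_add_comm, pad_add_pad]
      refine Eq.trans ?_ (add_assoc _ _ _).symm
      refine congrArg (fun w => pad _ _ + w) ?_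
      rw [e _ _ rfl rfl, map_add, map_add]
  let z : TruncatedWittVector p (n + 1 + 1) k :=
    TruncatedWittVector.mk p fun _ => (iterateFrobeniusEquiv k p (n + 1)).symm c
  have e1 : (p ^ (n + 1)) • z = emb (n + 1) c := TruncatedWittVector.ext fun i => by
    rw [WittGrpLib.coeff_pow_nsmul, coeff_emb]
    have := i.isLt
    split_ifs with h1 h2 h3
    · simp only [z, TruncatedWittVector.coeff_mk]
      rw [← iterateFrobeniusEquiv_def (R := k), RingEquiv.apply_symm_apply]
    all_goals first | rfl | (exfalso; omega)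
  have e2 : (p ^ (n + 1)) • Ψ z = 0 := TruncatedWittVector.ext fun i => by
    rw [WittGrpLib.coeff_pow_nsmul, TruncatedWittVector.coeff_zero]
    split_ifs with h1
    · have hi : (⟨(i : ℕ) - (n + 1), by omega⟩ : Fin (n + 1 + 1)) = 0 := Fin.ext (by
        have := i.isLt; simp only [Fin.val_zero]; omega)
      rw [hi]
      show ((pad _ _ + emb (n + 1) _ : TruncatedWittVector p (n + 1 + 1) k)).coeff 0 ^ _ = 0
      rw [coeff_zero_add', coeff_zero_pad, hz', coeff_emb, if_neg (by simp), add_zero,
        zero_pow (pow_ne_zero _ (Fact.out : p.Prime).ne_zero)]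
    · rfl
  rw [← map_nsmul, e1] at e2
  have e3 := congrArg last e2
  simp only [Ψ, AddMonoidHom.mk'_apply, truncate_emb, map_zero, pad_zero, zero_add, last_emb, hK0, sub_zero] at e3
  exact e3.trans (by simp [last])

end UnipStruct
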