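import Groth.Agent.UnipStructLib.Prod
import Groth.Agent.UnipStructLib.Ore
import Groth.Agent.WittExtLib.Univ
import Groth.Agent.WittGrpLib.Endo

/-!
Finite subschemes of Witt groups are killed by isogenies.
-/

set_option autoImplicit false
set_option linter.style.haveILetI false
set_option backward.isDefEq.respectTransparency false
set_option maxHeartbeats 1000000

noncomputable section

universe u

open CategoryTheory CategoryTheory.Limits MonoidalCategory CartesianMonoidalCategory MonObj AlgebraicGeometry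
open WittGrp WittGrpLib WittExtLib
open Groth.Agent

namespace UnipStruct

variable {p : ℕ} [Fact p.Prime] {k : Type u} [Field k] [IsAlgClosed k] [CharP k p]

local notation "SK" => Spec (CommRingCat.of k)
local notation "PT" => 𝟙_ (Over (Spec (CommRingCat.of k)))

theorem exists_kill_point : ∀ (n : ℕ) (v : TruncatedWittVector p n k),
    ∃ Φ : W p n SK ⟶ W p n SK, ∃ _ : IsMonHom Φ, PtIso Φ ∧ evHom Φ v = 0 := by
  intro n v
  suffices h : ∀ d : ℕ, ∀ v : TruncatedWittVector p n k, (∀ i : Fin n, (i : ℕ) + d < n → v.coeff i = 0) →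
      ∃ Φ : W p n SK ⟶ W p n SK, ∃ _ : IsMonHom Φ, PtIso Φ ∧ evHom Φ v = 0 from
    h n v fun i hi => absurd hi (by omega)
  intro d
  induction d with
  | zero =>
    intro v hv
    refine ⟨𝟙 _, inferInstance, ptIso_id, ?_⟩
    have : v = 0 := TruncatedWittVector.ext fun i => by
      rw [hv i (by have := i.isLt; omega), TruncatedWittVector.coeff_zero]
    rw [this, map_zero]
  | succ d ih =>
    intro v hv
    by_cases hd : n ≤ d
    · exact ih v fun i hi => absurd hi (by omega)
    obtain ⟨m, rfl⟩ : ∃ m, n = m + 1 := ⟨n - 1, by omega⟩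
    let j : ℕ := m + 1 - (d + 1)
    obtain ⟨z, hz⟩ := exists_nsmul_eq (l := j) v fun i hi => hv i (by omega)
    let c := z.coeff 0
    have hψ : ∀ a b : k, (a + b) ^ p - c ^ (p - 1) * (a + b) = (a ^ p - c ^ (p - 1) * a) + (b ^ p - c ^ (p - 1) * b) :=
      fun a b => by rw [add_pow_char]; ring
    let ψ : k →+ k := AddMonoidHom.mk' (fun t => t ^ p - c ^ (p - 1) * t) hψ
    have hψp : IsAddPoly (p := p) ψ := ⟨2, fun i => if i = 0 then -c ^ (p - 1) else 1, fun t => by
      simp [ψ, Finset.sum_range_succ]; ring⟩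
    obtain ⟨φ, hφm, hφ⟩ := exists_monHom_of_regMap (vec1 (p := p) ψ) (isRegMap_vec1 hψp isRegMap_id)
    haveI := hφm
    obtain ⟨Φ, hΦg, hΦ⟩ := exists_lift_line_R φ m
    haveI := hΦg.isMonHom
    have hcoef : ∀ x : PT ⟶ W p (m + 1) SK, (ev (x ≫ Φ)).coeff 0 = ψ ((ev x).coeff 0) := fun x => by
      have h1 : TruncatedWittVector.truncate (Nat.le_add_left 1 m) (ev (x ≫ Φ)) =
          vec1 ψ (TruncatedWittVector.truncate (Nat.le_add_left 1 m) (ev x)) := by
        rw [← ev_R, Category.assoc, ← hΦ, ← Category.assoc, hφ, ev_R]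
      have h2 := congrArg (fun w : TruncatedWittVector p 1 k => w.coeff 0) h1
      simpa [coeff_vec1, TruncatedWittVector.coeff_truncate] using h2
    have hiso : PtIso Φ := by
      refine PtIso.of_isogeny ((isogeny_iff Φ).2 fun hzero => ?_)
      have hall : ∀ t : k, ψ t = 0 := fun t => by
        obtain ⟨x, hx⟩ := ev_surjective (p := p) (TruncatedWittVector.mk p fun _ : Fin (m + 1) => t)
        have := hzero x
        rw [hcoef, hx, TruncatedWittVector.coeff_mk] at this
        exact this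
      have := addP_eq_zero (p := p) (N := 2) (c := fun i => if i = 0 then -c ^ (p - 1) else 1)
        (AddMonoidHom.ext fun t => by
          refine Eq.trans ?_ (hall t)
          simp [addP, ψ, Finset.sum_range_succ]; ring) 1 (by norm_num)
      simp at this
    have hnext : ∀ i : Fin (m + 1), (i : ℕ) + d < m + 1 → (evHom Φ v).coeff i = 0 := by
      intro i hi
      rw [← hz, map_nsmul, coeff_pow_nsmul]
      split_ifs with h
      · have hi0 : (⟨(i : ℕ) - j, by omega⟩ : Fin (m + 1)) = 0 := Fin.ext (by simp only [Fin.val_zero]; omega)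
        obtain ⟨x, rfl⟩ := ev_surjective z
        rw [hi0, evHom_ev, hcoef]
        show (c ^ p - c ^ (p - 1) * c) ^ _ = 0
        rw [← pow_succ, Nat.sub_add_cancel (Fact.out : p.Prime).one_le, sub_self,
          zero_pow (pow_ne_zero _ (Fact.out : p.Prime).ne_zero)]
      · rfl
    obtain ⟨Φ', hΦ'm, hΦ', hkill⟩ := ih (evHom Φ v) hnext
    exact ⟨Φ ≫ Φ', inferInstance, hiso.comp hΦ', by rw [evHom_comp, hkill]⟩

theorem exists_kill_finset (n : ℕ) (s : Finset (TruncatedWittVector p n k)) :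
    ∃ Φ : W p n SK ⟶ W p n SK, ∃ _ : IsMonHom Φ, PtIso Φ ∧ ∀ v ∈ s, evHom Φ v = 0 := by
  classical
  induction s using Finset.induction with
  | empty => exact ⟨𝟙 _, inferInstance, ptIso_id, fun v hv => absurd hv (Finset.notMem_empty v)⟩
  | insert v s hv ih =>
    obtain ⟨Φ, hΦm, hΦ, hk⟩ := ih
    obtain ⟨Φ', hΦ'm, hΦ', hk'⟩ := exists_kill_point n (evHom Φ v)
    refine ⟨Φ ≫ Φ', inferInstance, hΦ.comp hΦ', fun w hw => ?_⟩
    rw [evHom_comp]
    rcases Finset.mem_insert.1 hw with rfl | h
    · exact hk'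
    · rw [hk w h, map_zero]

/-- Iterated Frobenius. -/
theorem exists_frob_iter (n e : ℕ) : ∃ Φ : W p n SK ⟶ W p n SK, IsMonHom Φ ∧ PtIso Φ ∧
    ∀ (T : Over SK) (v : T ⟶ W p n SK) (i : Fin n),
      (pts p _ (Additive.ofMul (v ≫ Φ))).coeff i = (pts p _ (Additive.ofMul v)).coeff i ^ p ^ e := by
  induction e with
  | zero => exact ⟨𝟙 _, inferInstance, ptIso_id, fun T v i => by rw [Category.comp_id, pow_zero, pow_one]⟩
  | succ e ih =>
    obtain ⟨Φ, hΦm, hΦ, hc⟩ := ih
    have hF : PtIso (Frb (p := p) (k := k) n) := by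
      refine ⟨fun b => ?_, (Set.finite_singleton (1 : PT ⟶ W p n SK)).subset fun a ha => ?_⟩
      · obtain ⟨a, ha⟩ := ev_surjective (p := p)
          (TruncatedWittVector.mk p fun i => (frobeniusEquiv k p).symm ((ev b).coeff i))
        refine ⟨a, ev_injective (TruncatedWittVector.ext fun i => ?_)⟩
        rw [coeff_ev_F, ha, TruncatedWittVector.coeff_mk, frobeniusEquiv_symm_pow_p]
      · refine ev_injective (TruncatedWittVector.ext fun i => ?_)
        have h1 := congrArg (fun w => (ev w).coeff i) ha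
        simp only [coeff_ev_F, ev_one, TruncatedWittVector.coeff_zero] at h1
        rw [ev_one, TruncatedWittVector.coeff_zero]
        exact (pow_eq_zero_iff (Fact.out : p.Prime).ne_zero).1 h1
    refine ⟨Φ ≫ Frb n, inferInstance, hΦ.comp hF, fun T v i => ?_⟩
    rw [← Category.assoc, pts_F, coeff_frob, hc, ← pow_mul, ← pow_succ]

/-- A morphism from a scheme with finitely many points to a Witt group is killed by an isogeny. -/
theorem exists_kill {n : ℕ} {N : Over SK} [LocallyOfFiniteType N.hom] [QuasiCompact N.hom] [Finite (PT ⟶ N)]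
    (v : N ⟶ W p n SK) : ∃ Φ : W p n SK ⟶ W p n SK, IsMonHom Φ ∧ PtIso Φ ∧ v ≫ Φ = 1 := by
  classical
  haveI : Fintype (PT ⟶ N) := Fintype.ofFinite _
  obtain ⟨Φ₁, hΦ₁m, hΦ₁, hk⟩ := exists_kill_finset n (Finset.univ.image fun b : PT ⟶ N => ev (b ≫ v))
  haveI : JacobsonSpace N.left := LocallyOfFiniteType.jacobsonSpace N.hom
  have hnil : ∀ i : Fin n, IsNilpotent ((pts p _ (Additive.ofMul (v ≫ Φ₁))).coeff i) := by
    intro i
    haveI : CompactSpace N.left := QuasiCompact.compactSpace_of_compactSpace N.hom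
    set a := (pts p _ (Additive.ofMul (v ≫ Φ₁))).coeff i
    refine (Scheme.isNilpotent_iff_basicOpen_eq_bot_of_isCompact isCompact_univ a).2 ?_
    by_contra hne
    have hne' : ((N.left.basicOpen a : N.left.Opens) : Set N.left).Nonempty := by
      rw [Set.nonempty_iff_ne_empty]
      exact fun he => hne (TopologicalSpace.Opens.ext he)
    obtain ⟨x, hx, hx'⟩ := nonempty_inter_closedPoints hne' (N.left.basicOpen a).2.isLocallyClosed
    let b : PT ⟶ N := Over.homMk (U := PT) (pointOfClosedPoint N.hom x hx') (pointOfClosedPoint_comp _ _ _)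
    have h0 := hk (ev (b ≫ v)) (Finset.mem_image_of_mem _ (Finset.mem_univ b))
    rw [evHom_ev, Category.assoc] at h0
    have h1 : b.left.appTop a = 0 := by
      have h2 := congrArg (fun w : TruncatedWittVector p n k => w.coeff i) h0
      rw [ev, pts_comp, coeff_truncMap, coeff_truncMap, TruncatedWittVector.coeff_zero] at h2
      exact (ptFn k).injective (h2.trans (map_zero _).symm)
    have h3 : b.left (IsLocalRing.closedPoint k) ∈ N.left.basicOpen a := by
      simp [b]
      exact hx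
    have h4 : (IsLocalRing.closedPoint k) ∈ b.left ⁻¹ᵁ N.left.basicOpen a := h3
    rw [Scheme.preimage_basicOpen_top, h1, Scheme.basicOpen_zero] at h4
    exact h4
  choose e he using hnil
  obtain ⟨Φ₂, hΦ₂m, hΦ₂, hc⟩ := exists_frob_iter (p := p) (k := k) n (∑ i, e i)
  refine ⟨Φ₁ ≫ Φ₂, inferInstance, hΦ₁.comp hΦ₂, ext_pts (TruncatedWittVector.ext fun i => ?_)⟩
  rw [← Category.assoc, hc, pts_one, TruncatedWittVector.coeff_zero]
  refine pow_eq_zero_of_le ?_ (he i)
  exact (Finset.single_le_sum (fun _ _ => Nat.zero_le _) (Finset.mem_univ i)).trans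
    ((Nat.lt_pow_self (Fact.out : p.Prime).one_lt).le)

/-- A morphism from a scheme with finitely many points to a product of Witt groups is killed by an isogeny. -/
theorem exists_kill_prod {r : ℕ} {nn : Fin r → ℕ} {P : Over SK} [GrpObj P] {proj : ∀ j, P ⟶ W p (nn j) SK}
    [∀ j, IsMonHom (proj j)] (hP : IsLimit (Fan.mk P proj)) {N : Over SK} [LocallyOfFiniteType N.hom]
    [QuasiCompact N.hom] [Finite (PT ⟶ N)] (v : N ⟶ P) :
    ∃ Φ : P ⟶ P, IsMonHom Φ ∧ PtIso Φ ∧ v ≫ Φ = 1 := by
  choose φ hφm hφ hk using fun j => exists_kill (v ≫ proj j)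
  obtain ⟨Φ, hΦ⟩ := exists_of_proj hP fun j => proj j ≫ φ j
  refine ⟨Φ, ⟨proj_ext hP fun j => ?_, proj_ext hP fun j => ?_⟩, ⟨fun b => ?_, ?_⟩, proj_ext hP fun j => ?_⟩
  · haveI := hφm j
    rw [Category.assoc, hΦ, IsMonHom.one_hom, IsMonHom.one_hom]
  · haveI := hφm j
    rw [Category.assoc, hΦ, IsMonHom.mul_hom, Category.assoc, IsMonHom.mul_hom, ← Category.assoc,
      tensorHom_comp_tensorHom, hΦ]
  · choose a ha using fun j => (hφ j).1 (b ≫ proj j)
    obtain ⟨c, hc⟩ := exists_of_proj hP a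
    exact ⟨c, proj_ext hP fun j => by rw [Category.assoc, hΦ, ← Category.assoc, hc, ha]⟩
  · refine Set.Finite.of_finite_image (f := fun a j => a ≫ proj j) ?_ fun a _ b _ h => proj_ext hP (congrFun h)
    refine (Set.Finite.pi (t := fun j => {a : PT ⟶ W p (nn j) SK | a ≫ φ j = 1}) fun j => (hφ j).2).subset ?_
    rintro _ ⟨a, ha, rfl⟩ j -
    show (a ≫ proj j) ≫ φ j = 1
    rw [Category.assoc, ← hΦ, ← Category.assoc, show a ≫ Φ = 1 from ha, MonObj.one_comp]
  · rw [Category.assoc, hΦ, ← Category.assoc, hk, MonObj.one_comp]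

end UnipStruct
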