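import Groth.Agent.UnipStructLib.Kill

/-!
Lifts of homomorphisms from Witt groups along an extension by the additive group.
-/

set_option autoImplicit false
set_option linter.style.haveILetI false
set_option backward.isDefEq.respectTransparency false
set_option maxHeartbeats 1000000

noncomputable section

universe u

open CategoryTheory CategoryTheory.Limits MonoidalCategory CartesianMonoidalCategory MonObj AlgebraicGeometry
open WittGrp WittGrpLib WittExtLib
open Groth.Agent

namespace UnipStruct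

variable {p : ℕ} [Fact p.Prime] {k : Type u} [Field k] {m : ℕ}

local notation "SK" => Spec (CommRingCat.of k)
local notation "PT" => 𝟙_ (Over (Spec (CommRingCat.of k)))

/-- A section and a retraction of an extension by a Witt group. -/
theorem exists_sec (E Q : Over SK) [GrpObj E] [IsCommMonObj E] [QuasiCompact E.hom] [GrpObj Q] [IsAffine Q.left]
    (i : W p m SK ⟶ E) [IsMonHom i] (π : E ⟶ Q) [IsMonHom π] [Surjective π.left] [Flat π.left]
    (hker : AlgGrp.IsKernel i π) : ∃ (σ : Q ⟶ E) (ρ : E ⟶ W p m SK), σ ≫ π = 𝟙 _ ∧ σ ≫ ρ = 1 ∧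
      (∀ a : PT ⟶ E, a = (a ≫ π ≫ σ) * (a ≫ ρ ≫ i)) ∧
      ∀ (x : PT ⟶ E) (t : PT ⟶ W p m SK), (x * (t ≫ i)) ≫ ρ = (x ≫ ρ) * t := by
  haveI : QuasiCompact π.left := by
    haveI : QuasiCompact (π.left ≫ Q.hom) := by rw [Over.w]; infer_instance
    exact QuasiCompact.of_comp π.left Q.hom
  haveI : IsAffine E.left := isAffine_of_extension i π hker
  obtain ⟨ρ, hρ⟩ := exists_retraction i π hker
  have hkill : ∀ {X : Over SK} (x : X ⟶ E) (t : X ⟶ W p m SK), (x * (t ≫ i)) ≫ π = x ≫ π := fun {X} x t => by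
    rw [MonObj.mul_comp, Category.assoc, hker.w, ← Category.assoc, toUnit_unique (t ≫ toUnit _) (toUnit _),
      ← Hom.one_def, _root_.mul_one]
  let Φ : E ⟶ Q ⊗ W p m SK := lift π ρ
  let a : E ⊗ W p m SK ⟶ E := fst _ _ * (snd _ _ ≫ i)
  let Ψ : E ⊗ W p m SK ⟶ E ⊗ W p m SK := lift (fst _ _) ((fst _ _ ≫ ρ) * snd _ _)
  let Ψi : E ⊗ W p m SK ⟶ E ⊗ W p m SK := lift (fst _ _) ((fst _ _ ≫ ρ)⁻¹ * snd _ _)
  have hΨ : IsIso Ψ := by
    refine ⟨Ψi, ?_, ?_⟩
    · refine CartesianMonoidalCategory.hom_ext _ _ ?_ ?_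
      · simp [Ψ, Ψi]
      · rw [Category.assoc, lift_snd, MonObj.comp_mul, GrpObj.comp_inv, ← Category.assoc Ψ, lift_fst, lift_snd,
          inv_mul_cancel_left, Category.id_comp]
    · refine CartesianMonoidalCategory.hom_ext _ _ ?_ ?_
      · simp [Ψ, Ψi]
      · rw [Category.assoc, lift_snd, MonObj.comp_mul, ← Category.assoc Ψi, lift_fst, lift_snd,
          mul_inv_cancel_left, Category.id_comp]
  have hsq : IsPullback a Ψ Φ (π ▷ W p m SK) := by
    have hw : a ≫ Φ = Ψ ≫ π ▷ W p m SK := by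
      refine CartesianMonoidalCategory.hom_ext _ _ ?_ ?_
      · simp only [Φ, Category.assoc, lift_fst, whiskerRight_fst]
        rw [hkill, lift_fst_assoc]
      · simp only [Φ, Category.assoc, lift_snd, whiskerRight_snd]
        rw [hρ]
        simp [Ψ]
    have hl : ∀ s : PullbackCone Φ (π ▷ W p m SK), ∃ l : s.pt ⟶ E ⊗ W p m SK,
        l ≫ a = s.fst ∧ l ≫ Ψ = s.snd := fun s => by
      have h1 := congrArg (· ≫ fst _ _) s.condition
      have h2 := congrArg (· ≫ snd _ _) s.condition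
      simp only [Φ, Category.assoc, lift_fst, lift_snd, whiskerRight_fst, whiskerRight_snd] at h1 h2
      let d : s.pt ⟶ W p m SK := hker.lift ((s.snd ≫ fst _ _)⁻¹ * s.fst) (toUnit _) (by
        rw [MonObj.mul_comp, GrpObj.inv_comp, Category.assoc, h1, inv_mul_cancel, Hom.one_def])
      have hd : d ≫ i = (s.snd ≫ fst _ _)⁻¹ * s.fst := hker.lift_fst _ _ _
      have hx : (s.snd ≫ fst _ _) * (d ≫ i) = s.fst := by rw [hd, mul_inv_cancel_left]
      refine ⟨lift (s.snd ≫ fst _ _) d, ?_, ?_⟩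
      · simp only [a, MonObj.comp_mul, lift_fst, lift_snd_assoc, hx]
      · refine CartesianMonoidalCategory.hom_ext _ _ ?_ ?_
        · simp [Ψ]
        · simp only [Ψ, Category.assoc, lift_snd, MonObj.comp_mul, lift_fst_assoc]
          rw [← Category.assoc, ← hρ, hx, h2]
    refine ⟨⟨hw⟩, ⟨PullbackCone.IsLimit.mk _ (fun s => (hl s).choose) (fun s => (hl s).choose_spec.1)
      (fun s => (hl s).choose_spec.2) fun s l hla hlb => ?_⟩⟩
    exact (cancel_mono Ψ).1 (hlb.trans (hl s).choose_spec.2.symm)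
  haveI : IsIso Φ.left := by
    haveI : IsIso Ψ.left := (Over.forget SK).map_isIso Ψ
    haveI : Surjective (π ▷ W p m SK).left := MorphismProperty.of_isPullback (P := @Surjective)
      ((isPullback_whiskerRight π (W p m SK)).flip) ‹_›
    haveI : Flat (π ▷ W p m SK).left := MorphismProperty.of_isPullback (P := @Flat)
      ((isPullback_whiskerRight π (W p m SK)).flip) ‹_›
    haveI : QuasiCompact (π ▷ W p m SK).left := MorphismProperty.of_isPullback (P := @QuasiCompact)
      ((isPullback_whiskerRight π (W p m SK)).flip) ‹_›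
    exact MorphismProperty.of_isPullback_of_descendsAlong (P := MorphismProperty.isomorphisms Scheme)
      (Q := @Surjective ⊓ @Flat ⊓ @QuasiCompact) (hsq.map (Over.forget SK)).flip
      ⟨⟨‹_›, ‹_›⟩, ‹_›⟩ (show MorphismProperty.isomorphisms Scheme Ψ.left from ‹_›)
  haveI : IsIso Φ := (isIso_iff_of_reflects_iso Φ (Over.forget SK)).1 ‹_›
  let σ : Q ⟶ E := lift (𝟙 _) 1 ≫ inv Φ
  have hσ : σ ≫ Φ = lift (𝟙 _) 1 := by simp [σ]
  have h1 : σ ≫ π = 𝟙 _ := by
    have := congrArg (· ≫ fst _ _) hσ; simpa [Φ] using this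
  have h2 : σ ≫ ρ = 1 := by
    have := congrArg (· ≫ snd _ _) hσ; simpa [Φ] using this
  refine ⟨σ, ρ, h1, h2, fun x => ?_, fun x t => hρ _ x t⟩
  refine (cancel_mono Φ).1 (CartesianMonoidalCategory.hom_ext _ _ ?_ ?_)
  · simp only [Φ, Category.assoc, lift_fst]
    rw [← Category.assoc x ρ i, hkill, Category.assoc, Category.assoc, h1, Category.comp_id]
  · simp only [Φ, Category.assoc, lift_snd]
    rw [← Category.assoc x ρ i, hρ, Category.assoc, Category.assoc, h2, MonObj.comp_one, MonObj.comp_one,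
      _root_.one_mul]


variable [IsAlgClosed k] [CharP k p]

/-- Homomorphisms from Witt groups lift, one step longer, along an extension by the additive group. -/
theorem exists_lift_succ {G Q : Over SK} [GrpObj G] [IsCommMonObj G] [Smooth G.hom] [QuasiCompact G.hom] [GrpObj Q]
    [IsAffine Q.left] [LocallyOfFiniteType Q.hom] (i : W p 1 SK ⟶ G) [IsMonHom i] (q : G ⟶ Q) [IsMonHom q] [Surjective q.left] [Flat q.left]
    (hker : AlgGrp.IsKernel i q) (n : ℕ) (h : W p n SK ⟶ Q) [IsMonHom h] :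
    ∃ φ : k →+ k, IsAddPoly (p := p) φ ∧ ∃ g : W p (n + 1) SK ⟶ G, ∃ _ : IsMonHom g,
      g ≫ q = R p SK (Nat.le_add_right n 1) ≫ h ∧
      ∀ t : PT ⟶ W p 1 SK, t ≫ V p SK (Nat.le_add_left 1 n) ≫ g = evEquiv.symm (vec1 φ (ev t)) ≫ i := by
  obtain ⟨σ, ρ, hσq, hσρ, hdec, hequiv⟩ := exists_sec G Q i q hker
  haveI : IsSeparated G.hom := Groth.Agent.GrpField.isSeparated_grp (G := G)
  let inc : TruncatedWittVector p 1 k → (PT ⟶ G) := fun w => evEquiv.symm w ≫ i
  have inc_add : ∀ v w, inc (v + w) = inc v * inc w := fun v w => by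
    simp only [inc]
    rw [← MonObj.mul_comp]
    congr 1
    refine evEquiv.symm_apply_eq.2 ?_
    rw [evEquiv_apply, ev_mul, ev_evEquiv_symm, ev_evEquiv_symm]
  have ρ_inc : ∀ x w, ev ((x * inc w) ≫ ρ) = ev (x ≫ ρ) + w := fun x w => by
    simp only [inc]
    rw [hequiv, ev_mul, ev_evEquiv_symm]
  let sec : TruncatedWittVector p n k → (PT ⟶ G) := fun a => (evEquiv.symm a ≫ h) ≫ σ
  have sec_q : ∀ a, sec a ≫ q = evEquiv.symm a ≫ h := fun a => by
    simp only [sec]
    rw [Category.assoc, hσq, Category.comp_id]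
  have sec_ρ : ∀ a, ev (sec a ≫ ρ) = 0 := fun a => by
    simp only [sec]
    rw [Category.assoc, hσρ, MonObj.comp_one, ev_one]
  let coc : TruncatedWittVector p n k → TruncatedWittVector p n k → TruncatedWittVector p 1 k :=
    fun a b => ev ((sec a * sec b) ≫ ρ)
  have sec_mul : ∀ a b, sec a * sec b = sec (a + b) * inc (coc a b) := fun a b => by
    conv_lhs => rw [hdec (sec a * sec b)]
    simp only [inc, coc]
    rw [evEquiv_symm_ev, Category.assoc, ← Category.assoc (sec a * sec b) q σ, MonObj.mul_comp, sec_q, sec_q,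
      ← MonObj.mul_comp]
    congr 3
    rw [← evEquiv.symm_apply_apply (evEquiv.symm a * evEquiv.symm b : PT ⟶ W p n SK), evEquiv_apply, ev_mul,
      ev_evEquiv_symm, ev_evEquiv_symm]
  have coc_coc : ∀ a b c, coc a b + coc (a + b) c = coc b c + coc a (b + c) := fun a b c => by
    have e : (sec a * sec b) * sec c = sec a * (sec b * sec c) := _root_.mul_assoc _ _ _
    rw [sec_mul a b, sec_mul b c, mul_right_comm, sec_mul (a + b) c, ← _root_.mul_assoc (sec a), sec_mul a (b + c)] at e
    have h2 := congrArg (fun x => ev (x ≫ ρ)) e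
    simp only [ρ_inc, sec_ρ, zero_add] at h2
    rw [add_comm (coc a b), add_comm (coc b c)]
    exact h2
  have coc_reg : IsRegMap (c2 p k n) fun ab => coc ab.1 ab.2 := by
    obtain ⟨φ, hφ, hφx⟩ := exists_regMap_of_hom₂
      ((((fst (W p n SK) (W p n SK) ≫ h) ≫ σ) * ((snd (W p n SK) (W p n SK) ≫ h) ≫ σ)) ≫ ρ)
    have : (fun ab : TruncatedWittVector p n k × TruncatedWittVector p n k => coc ab.1 ab.2) = φ := by
      funext ab
      obtain ⟨a, b⟩ := ab
      obtain ⟨x, rfl⟩ := ev_surjective a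
      obtain ⟨y, rfl⟩ := ev_surjective b
      rw [← hφx, ← Category.assoc, MonObj.comp_mul]
      simp only [coc, sec, evEquiv_symm_ev, ← Category.assoc, lift_fst, lift_snd]
    rw [this]; exact hφ
  obtain ⟨φ, hφ, J, hJ, hf⟩ := classify n (f := fun a b => (coc a b).coeff 0)
    { reg := coc_reg 0
      symm := fun a b => by simp only [coc]; rw [mul_comm]
      coc := fun a b c => by rw [← coeff_zero_add, coc_coc, coeff_zero_add] }
  let G₁ : TruncatedWittVector p (n + 1) k → TruncatedWittVector p 1 k := fun x =>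
    one1 (φ (last x) + J (TruncatedWittVector.truncate (Nat.le_add_right n 1) x))
  have hG₁ : IsRegMap (c1 p k (n + 1)) G₁ := isRegMap_one1 (rg_add (hφ.reg reg_last)
    ((isRegMap_id.truncate (Nat.le_add_right n 1)).comp hJ))
  obtain ⟨G', hG'⟩ := exists_hom_of_regMap hG₁
  let g : W p (n + 1) SK ⟶ G := ((R p SK (Nat.le_add_right n 1) ≫ h) ≫ σ) * (G' ≫ i)
  have hg : ∀ a, a ≫ g = sec (TruncatedWittVector.truncate (Nat.le_add_right n 1) (ev a)) * inc (G₁ (ev a)) :=
    fun a => by
      simp only [g, MonObj.comp_mul, sec, inc]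
      rw [← ev_R, ← hG', evEquiv_symm_ev, evEquiv_symm_ev]
      simp only [Category.assoc]
  have hfull : ∀ a b, coc a b = one1 (φ (Cn n a b) + cob J a b) := fun a b => by rw [← hf, one1_coeff]
  haveI hgm : IsMonHom g := isMonHom_of_points g fun x y => by
    rw [hg, hg, hg, _root_.mul_mul_mul_comm, sec_mul, ev_mul, map_add, _root_.mul_assoc, ← inc_add, ← inc_add]
    congr 2
    simp only [G₁, hfull, cob, ← map_add]
    congr 1
    have hl := cob_last (ev x) (ev y)
    rw [map_add, ← hl, cob, map_sub, map_sub]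
    abel
  refine ⟨φ, hφ, g, hgm, AVAmpleLib.hom_ext_of_points _ _ fun a => ?_, fun t => ?_⟩
  · rw [← Category.assoc, hg, MonObj.mul_comp, sec_q, ← ev_R, evEquiv_symm_ev, Category.assoc]
    simp only [inc]
    rw [Category.assoc, hker.w, ← Category.assoc (evEquiv.symm _), toUnit_unique (evEquiv.symm _ ≫ toUnit _) (toUnit _),
      ← Hom.one_def, _root_.mul_one]
  · rw [← Category.assoc, hg, ev_V, ← one1_coeff (ev t), ← emb_eq_shift, truncate_emb]
    have h0 : sec 0 = inc (coc 0 0) := by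
      have e := sec_mul 0 0
      rw [add_zero] at e
      exact mul_left_cancel e
    rw [h0, ← inc_add, hfull, one1_coeff]
    simp only [G₁, last_emb, truncate_emb, inc]
    congr 2
    rw [← map_add]
    refine eq_of_coeff_zero ?_
    simp [cob, Cn_zero, coeff_vec1, coeff_one1]

end UnipStruct
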