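import Groth.Agent.UnipStructLib.Basic
import Groth.Agent.S12181
import Groth.Agent.S3030
import Groth.Agent.SemiAbLib.TorusOrGa
import Groth.Agent.SemiAbLib.Torus
import Groth.Agent.AntiAffLib.AffineQuot
import Groth.Agent.AntiAffLib.CommCat
import Groth.Agent.WittGrpLib.Homs

/-!
Additive subgroups of unipotent groups and the quotients by them.
-/

set_option autoImplicit false
set_option linter.style.haveILetI false
set_option backward.isDefEq.respectTransparency false
set_option maxHeartbeats 1000000

noncomputable section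

universe u

open CategoryTheory CategoryTheory.Limits MonoidalCategory CartesianMonoidalCategory MonObj AlgebraicGeometry
open WittGrp WittGrpLib
open Groth.Agent

namespace UnipStruct

variable {p : ℕ} [Fact p.Prime] {k : Type u} [Field k] [IsAlgClosed k] [CharP k p]

local notation "SK" => Spec (CommRingCat.of k)
local notation "PT" => 𝟙_ (Over (Spec (CommRingCat.of k)))

/-- A non-trivial unipotent group has an additive subgroup, with a smaller unipotent quotient. -/
theorem exists_quot (G : Over SK) [GrpObj G] [IsCommMonObj G] [Smooth G.hom] [ConnectedSpace ↥G.left]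
    [IsAffine G.left] (M : ℕ) (hM : (𝟙 G) ^ (p ^ M) = 1) (hne : ∃ a : PT ⟶ G, a ≠ 1) :
    ∃ (Q : Over SK) (_ : GrpObj Q) (_ : IsCommMonObj Q) (i : W p 1 SK ⟶ G) (q : G ⟶ Q), IsMonHom i ∧ IsMonHom q ∧
      IsClosedImmersion i.left ∧ Surjective q.left ∧ Flat q.left ∧ AlgGrp.IsKernel i q ∧ Smooth Q.hom ∧
      ConnectedSpace ↥Q.left ∧ IsAffine Q.left ∧ (𝟙 Q) ^ (p ^ M) = 1 ∧
      topologicalKrullDim Q.left < topologicalKrullDim G.left := by
  haveI : QuasiCompact G.hom := inferInstance
  rcases SemiAbLib.isTorus_or_exists_ga G with hT | ⟨j, hj, hjc⟩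
  · exfalso
    obtain ⟨a, ha⟩ := hne
    obtain ⟨y, rfl⟩ := SemiAbLib.torus_exists_root hT (pow_ne_zero M (Fact.out : p.Prime).ne_zero) a
    refine ha ?_
    conv_lhs => rw [← Category.comp_id y, ← MonObj.comp_pow, hM, MonObj.comp_one]
  obtain ⟨e, he, -⟩ := Groth.Agent.S12181.result p SK
  haveI := he; haveI := hj; haveI := hjc
  let i : W p 1 SK ⟶ G := e.hom ≫ j
  haveI : IsIso e.hom.left := (Over.forget _).map_isIso e.hom
  haveI : IsClosedImmersion i.left := by simp only [i, Over.comp_left]; infer_instance
  haveI : Mono i := Over.mono_of_mono_left i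
  haveI : Flat (W p 1 SK).hom := inferInstance
  haveI : QuasiCompact i.left := inferInstance
  obtain ⟨Q, _, q, hqm, hqf, hqs, -, hker, hQsep, -, hQsm⟩ := Groth.Agent.S3030.result k (W p 1 SK) G i
    (fun T g m => ⟨m, by
      letI : CommGroup (T ⟶ G) := Hom.commGroup
      rw [_root_.mul_comm g, mul_inv_cancel_right]⟩)
  haveI := hqm; haveI := hqf; haveI := hqs; haveI := hQsep; haveI := hQsm inferInstance
  haveI : IsAffine Q.left := AntiAffLib.isAffine_of_surjective_hom q
  haveI : ConnectedSpace ↥Q.left := q.left.surjective.connectedSpace q.left.continuous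
  haveI : QuasiCompact Q.hom := inferInstance
  haveI : LocallyOfFinitePresentation q.left := AntiAffLib.lfp_of_lft q
  haveI : QuasiCompact q.left := quasiCompact_left q
  haveI : IsReduced Q.left := AlgSpLib.isReduced_of_smooth Q.hom
  haveI hQc : IsCommMonObj Q := AntiAffLib.CommCat.isComm_of_epi q
  refine ⟨Q, inferInstance, hQc, i, q, inferInstance, hqm, inferInstance, hqs, hqf, hker, inferInstance,
    inferInstance, inferInstance, ?_, ?_⟩
  · refine AVAmpleLib.hom_ext_of_points _ _ fun b => ?_
    obtain ⟨a, rfl⟩ := AVAmpleLib.exists_pt_lift q b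
    rw [MonObj.comp_pow, MonObj.comp_one, Category.comp_id, ← MonObj.pow_comp, ← Category.comp_id a,
      ← MonObj.comp_pow, hM, MonObj.comp_one, MonObj.one_comp]
  · haveI := AlbLib.geometricallyIntegral_grp G
    haveI := AlbLib.geometricallyIntegral_grp Q
    haveI : IsIntegral G.left := GeometricallyIntegral.isIntegral_of_subsingleton G.hom
    haveI : IsIntegral Q.left := GeometricallyIntegral.isIntegral_of_subsingleton Q.hom
    haveI : LocallyOfFiniteType q.left := Groth.Agent.GrpHom.lft_left q
    obtain ⟨x⟩ : Nonempty G.left := inferInstance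
    have h1 := FibDimLib.localDim_eq_add_fibreDimAt Q.hom q.left x
    rw [FibDimLib.localDim_of_irreducible G.hom x, FibDimLib.localDim_of_irreducible Q.hom (q.left x)] at h1
    refine lt_of_le_of_ne (h1 ▸ le_add_of_nonneg_right (AlgSpLib.fibreDimAt_nonneg _ _)) fun hdim => ?_
    haveI := SemiAbLib.isFinite_of_surjective_of_dim q hdim.symm
    haveI : IsFinite (W p 1 SK).hom := by
      have h2 := (hker.map (Over.forget _))
      have h3 : IsFinite (toUnit (W p 1 SK)).left := MorphismProperty.of_isPullback (P := @IsFinite) h2 ‹_›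
      rw [← Over.w (toUnit (W p 1 SK))]
      haveI : IsIso (𝟙_ (Over SK)).hom := inferInstanceAs (IsIso (𝟙 _))
      exact inferInstanceAs (IsFinite ((toUnit (W p 1 SK)).left ≫ (𝟙_ (Over SK)).hom))
    haveI := finite_pts (W p 1 SK)
    haveI : Finite k := Finite.of_injective
      (fun c => evEquiv.symm (TruncatedWittVector.mk p fun _ : Fin 1 => c) : k → (PT ⟶ W p 1 SK)) fun a b h => by
        have := congrArg (fun v : TruncatedWittVector p 1 k => v.coeff 0) (evEquiv.symm.injective h)
        simpa using this
    exact not_finite k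

end UnipStruct
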