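import Groth.Agent.UnipStructLib.Assembly
import Groth.Agent.UnipStructLib.Quot

/-!
Unipotent groups are isogenous to products of Witt groups.
-/

set_option autoImplicit false
set_option linter.style.haveILetI false
set_option backward.isDefEq.respectTransparency false
set_option maxHeartbeats 1000000

noncomputable section

universe u

open CategoryTheory CategoryTheory.Limits MonoidalCategory CartesianMonoidalCategory MonObj AlgebraicGeometry
open WittGrp WittGrpLib WittExtLib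
open Groth.Agent

namespace UnipStruct

variable {p : ℕ} [Fact p.Prime] {k : Type u} [Field k] [IsAlgClosed k] [CharP k p]

local notation "SK" => Spec (CommRingCat.of k)
local notation "PT" => 𝟙_ (Over (Spec (CommRingCat.of k)))

theorem evHom_one_map {n m : ℕ} [IsMonHom (1 : W p n SK ⟶ W p m SK)] (v : TruncatedWittVector p n k) :
    evHom (1 : W p n SK ⟶ W p m SK) v = 0 := by
  obtain ⟨x, rfl⟩ := ev_surjective v
  rw [evHom_ev, MonObj.comp_one, ev_one]

theorem evHom_id_map {n : ℕ} (v : TruncatedWittVector p n k) : evHom (𝟙 (W p n SK)) v = v := by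
  obtain ⟨x, rfl⟩ := ev_surjective v
  rw [evHom_ev, Category.comp_id]

section Step

variable {G : Over (Spec (CommRingCat.of k))} [GrpObj G] [IsCommMonObj G] [Smooth G.hom] [IsSeparated G.hom]
  {Q : Over (Spec (CommRingCat.of k))} [GrpObj Q]
  (i : W p 1 (Spec (CommRingCat.of k)) ⟶ G) [IsMonHom i] (q : G ⟶ Q) [IsMonHom q]
  (hker : AlgGrp.IsKernel i q)
include hker

/-- The corrected lift on one factor. -/
theorem exists_factor_lift {n n₀ : ℕ} {h : W p n SK ⟶ Q} {φ : k →+ k} {g : W p (n + 1) SK ⟶ G} [IsMonHom g]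
    (hg : IsLiftSucc i q n h φ g) {h₀ : W p n₀ SK ⟶ Q} {φ₀ : k →+ k} {g₀ : W p (n₀ + 1) SK ⟶ G} [IsMonHom g₀]
    (hg₀ : IsLiftSucc i q n₀ h₀ φ₀ g₀) (hφp : IsAddPoly (p := p) φ) (hφ₀p : IsAddPoly (p := p) φ₀)
    (hor : φ = 0 ∨ n ≤ n₀ ∧ φ₀ ≠ 0) :
    ∃ (F : W p n SK ⟶ W p n SK) (_ : IsMonHom F) (et : W p n SK ⟶ W p n₀ SK) (_ : IsMonHom et) (L : W p n SK ⟶ G),
      IsMonHom L ∧ PtIso F ∧ ∀ x : PT ⟶ W p n SK, x ≫ L ≫ q = (x ≫ F ≫ h) * (x ≫ et ≫ h₀)⁻¹ := by
  haveI : IsMonHom (1 : W p n SK ⟶ W p n₀ SK) := isMonHom_one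
  have htriv : (∀ a b, φ (Cn n a b) = 0) →
      ∃ (F : W p n SK ⟶ W p n SK) (_ : IsMonHom F) (et : W p n SK ⟶ W p n₀ SK) (_ : IsMonHom et) (L : W p n SK ⟶ G),
        IsMonHom L ∧ PtIso F ∧ ∀ x : PT ⟶ W p n SK, x ≫ L ≫ q = (x ≫ F ≫ h) * (x ≫ et ≫ h₀)⁻¹ := fun hz => by
    obtain ⟨L, hLm, hL⟩ := exists_L i q hker hg hg₀ (𝟙 _) (1 : W p n SK ⟶ W p n₀ SK) (J := fun _ => 0) (rg_const _ 0)
      fun a b => by
        simp only [evHom_id_map, evHom_one_map, Cn_zero, map_zero, cob, sub_zero]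
        exact hz a b
    exact ⟨𝟙 _, inferInstance, 1, inferInstance, L, hLm, ptIso_id, hL⟩
  rcases Nat.eq_zero_or_pos n with hn | hn
  · refine htriv fun a b => ?_
    subst hn
    rw [show a = 0 from TruncatedWittVector.ext fun j => j.elim0,
      show b = 0 from TruncatedWittVector.ext fun j => j.elim0, Cn_zero, map_zero]
  rcases hor with h0 | ⟨hle, hφ₀⟩
  · exact htriv fun a b => by rw [h0]; rfl
  obtain ⟨m, rfl⟩ : ∃ m, n = m + 1 := ⟨n - 1, by omega⟩
  obtain ⟨χ, χ₀, hχ, hχ₀, hχ0, heq⟩ := exists_ore hφp hφ₀p hφ₀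
  obtain ⟨F, hFm, hFi, F', -, hF', K, hK, hKeq⟩ := exists_push_isogeny m hχ hχ0
  obtain ⟨E', hE', K₀, hK₀, hK₀eq⟩ := exists_push hle hχ₀
  obtain ⟨et, hetm, het⟩ := exists_monHom_of_regMap E' hE'
  have eF : ∀ a, evHom F a = F' a := fun a => by
    obtain ⟨x, rfl⟩ := ev_surjective a; rw [evHom_ev, hF']
  have eE : ∀ a, evHom et a = E' a := fun a => by
    obtain ⟨x, rfl⟩ := ev_surjective a; rw [evHom_ev, het]
  obtain ⟨L, hLm, hL⟩ := exists_L i q hker hg hg₀ F et (J := fun u => φ₀ (K₀ u) - φ (K u))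
    (rg_sub (hφ₀p.reg hK₀) (hφp.reg hK)) fun a b => by
      rw [eF, eF, eE, eE, eq_sub_of_add_eq (hKeq a b).symm, eq_sub_of_add_eq (hK₀eq a b).symm]
      simp only [cob, map_sub, heq]
      abel
  exact ⟨F, hFm, et, hetm, L, hLm, PtIso.of_isogeny hFi, hL⟩

end Step

variable (p) in
/-- Data of an isogeny from a product of Witt groups. -/
def HasCover (G : Over SK) [GrpObj G] : Prop :=
  ∃ (r : ℕ) (nn : Fin r → ℕ) (P : Over SK) (_ : GrpObj P) (proj : ∀ j, P ⟶ W p (nn j) SK),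
    (∀ j, IsMonHom (proj j)) ∧ Nonempty (IsLimit (Fan.mk P proj)) ∧ ∃ g : P ⟶ G, IsMonHom g ∧ PtIso g

/-- A cover from homomorphisms on the factors of a product. -/
theorem hasCover_of_factors {G : Over SK} [GrpObj G] [IsCommMonObj G] {r : ℕ} (nn : Fin r → ℕ)
    (T : ∀ j, W p (nn j) SK ⟶ G) (hT : ∀ j, IsMonHom (T j))
    (hs : ∀ b : PT ⟶ G, ∃ a : ∀ j, PT ⟶ W p (nn j) SK, ∏ j, a j ≫ T j = b)
    (hf : {a : ∀ j, PT ⟶ W p (nn j) SK | ∏ j, a j ≫ T j = 1}.Finite) : HasCover p G := by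
  obtain ⟨P, _, _, proj, hproj, ⟨hP⟩, -⟩ := exists_prod (k := k) p r nn
  haveI := hproj
  let g : P ⟶ G := ∏ j, proj j ≫ T j
  have hgp : ∀ x : PT ⟶ P, x ≫ g = ∏ j, (x ≫ proj j) ≫ T j := fun x => by
    simp only [g, comp_finset_prod, Category.assoc]
  refine ⟨r, nn, P, inferInstance, proj, hproj, ⟨hP⟩, g, isMonHom_finset_prod _ _ fun j _ => ?_, fun b => ?_, ?_⟩
  · haveI := hT j
    infer_instance
  · obtain ⟨a, ha⟩ := hs b
    obtain ⟨x, hx⟩ := exists_of_proj hP a
    exact ⟨x, by rw [hgp]; simp only [hx, ha]⟩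
  · refine Set.Finite.of_finite_image (f := fun x j => x ≫ proj j) (hf.subset ?_)
      fun a _ b _ h => proj_ext hP (congrFun h)
    rintro _ ⟨x, hx, rfl⟩
    show ∏ j, (x ≫ proj j) ≫ T j = 1
    rw [← hgp]; exact hx

set_option maxHeartbeats 2000000 in
/-- The induction step: extensions by the additive group. -/
theorem hasCover_step {G Q : Over SK} [GrpObj G] [IsCommMonObj G] [Smooth G.hom] [IsAffine G.left] [GrpObj Q]
    [IsCommMonObj Q] [IsAffine Q.left] [LocallyOfFiniteType Q.hom] (i : W p 1 SK ⟶ G) [IsMonHom i] (q : G ⟶ Q)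
    [IsMonHom q] [Surjective q.left] [Flat q.left] (hker : AlgGrp.IsKernel i q) (hQ : HasCover p Q) :
    HasCover p G := by
  classical
  haveI : QuasiCompact G.hom := inferInstance
  haveI : IsSeparated G.hom := inferInstance
  obtain ⟨r, nn, P, _, proj, hproj, ⟨hP⟩, gQ, hgQ, hgQs, hgQf⟩ := hQ
  haveI := hproj; haveI := hgQ
  haveI : IsCommMonObj P := isCommMonObj_prod hP
  choose e hem he1 he2 using fun j => exists_incl hP j
  haveI := hem
  let h : ∀ j, W p (nn j) SK ⟶ Q := fun j => e j ≫ gQ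
  choose φ hφ g hgm hg1 hg2 using fun j => exists_lift_succ i q hker (nn j) (h j)
  haveI := hgm
  have hlift : ∀ j, IsLiftSucc i q (nn j) (h j) (φ j) (g j) := fun j => ⟨hg1 j, hg2 j⟩
  -- the image of a point of the product
  have hu : ∀ u : PT ⟶ P, u ≫ gQ = ∏ j, (u ≫ proj j) ≫ h j := fun u => by
    have hd : u = ∏ j, (u ≫ proj j) ≫ e j := proj_ext hP fun l => by
      rw [finset_prod_comp, Finset.prod_eq_single l (fun j _ hj => by
        rw [Category.assoc, he2 j l (Ne.symm hj), MonObj.comp_one]) fun hl => absurd (Finset.mem_univ l) hl,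
        Category.assoc, he1, Category.comp_id]
    conv_lhs => rw [hd, finset_prod_comp]
    simp only [h, Category.assoc]
  have hpart : ∀ (a : ∀ j, PT ⟶ W p (nn j) SK), ∃ u : PT ⟶ P, (∀ j, u ≫ proj j = a j) ∧
      u ≫ gQ = ∏ j, a j ≫ h j := fun a => by
    obtain ⟨u, hu'⟩ := exists_of_proj hP a
    exact ⟨u, hu', by rw [hu]; simp only [hu']⟩
  by_cases hall : ∀ j, φ j = 0
  · -- no non-trivial multiplier: a split cover
    choose F hFm et hetm L hLm hFi hL using fun j =>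
      exists_factor_lift i q hker (hlift j) (hlift j) (hφ j) (hφ j) (Or.inl (hall j))
    haveI := hLm
    choose L' hL'm hL' using fun j => show ∃ L' : W p (nn j) SK ⟶ G, IsMonHom L' ∧ L' ≫ q = h j from by
      obtain ⟨L', hm, hL'⟩ := exists_L i q hker (hlift j) (hlift j) (𝟙 _) (1 : W p (nn j) SK ⟶ W p (nn j) SK)
        (hJ := rg_const _ (0 : k)) (fun a b => by
          simp only [hall, cob, AddMonoidHom.zero_apply, sub_self])
      refine ⟨L', hm, AVAmpleLib.hom_ext_of_points _ _ fun x => ?_⟩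
      rw [hL', Category.id_comp, MonObj.one_comp, MonObj.comp_one, inv_one, _root_.mul_one]
    let nn' : Fin (r + 1) → ℕ := Fin.cons 1 nn
    let T : ∀ j, W p (nn' j) SK ⟶ G := Fin.cases i L'
    have hTm : ∀ j, IsMonHom (T j) := Fin.cases (inferInstanceAs (IsMonHom i)) hL'm
    have hprod : ∀ a : ∀ j, PT ⟶ W p (nn' j) SK, (∏ j, a j ≫ T j) = a 0 ≫ i * ∏ j, a j.succ ≫ L' j := fun a => by
      rw [Fin.prod_univ_succ]; rfl
    refine hasCover_of_factors nn' T hTm (fun b => ?_) ?_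
    · obtain ⟨u, hu'⟩ := hgQs (b ≫ q)
      obtain ⟨w, hw⟩ := exists_inc_eq i q hker (b / ∏ j, (u ≫ proj j) ≫ L' j) (by
        rw [div_eq_mul_inv, MonObj.mul_comp, GrpObj.inv_comp, finset_prod_comp, ← hu', hu]
        simp only [Category.assoc, hL', mul_inv_cancel])
      refine ⟨Fin.cases (evEquiv.symm w) fun j => u ≫ proj j, ?_⟩
      rw [hprod]
      simp only [Fin.cases_zero, Fin.cases_succ]
      show inc i w * _ = b
      rw [hw, div_mul_cancel]
    · refine Set.Finite.of_finite_fibers (fun (a : ∀ j, PT ⟶ W p (nn' j) SK) (j : Fin r) => a j.succ)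
        ((hgQf.image fun u j => u ≫ proj j).subset ?_) fun c _ => ?_
      · rintro _ ⟨a, ha, rfl⟩
        obtain ⟨u, hu1, hu2⟩ := hpart fun j => a j.succ
        refine ⟨u, ?_, funext hu1⟩
        show u ≫ gQ = 1
        have h1 := congrArg (· ≫ q) ((hprod a).symm.trans ha)
        simp only [MonObj.mul_comp, MonObj.one_comp, finset_prod_comp, Category.assoc, hL'] at h1
        have h0 : ∀ x : PT ⟶ W p 1 SK, x ≫ i ≫ q = 1 := fun x => by
          rw [hker.w, ← Category.assoc, toUnit_unique (x ≫ toUnit _) (toUnit _), ← Hom.one_def]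
        erw [h0 (a 0), _root_.one_mul] at h1
        rw [hu2]; exact h1
      · refine Set.Subsingleton.finite fun a ⟨ha, hac⟩ b ⟨hb, hbc⟩ => ?_
        have hs : ∀ j : Fin r, a j.succ = b j.succ := fun j => (congrFun hac j).trans (congrFun hbc j).symm
        have h1 := ((hprod a).symm.trans ha).trans ((hprod b).symm.trans hb).symm
        simp only [hs, mul_right_cancel_iff] at h1
        refine funext (Fin.cases (hker.hom_ext h1 (toUnit_unique _ _)) hs)
  -- a longest factor with non-trivial multiplier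
  push_neg at hall
  obtain ⟨j₀, hj₀, hmax⟩ := Finset.exists_max_image (Finset.univ.filter fun j => φ j ≠ 0) nn
    (hall.imp fun j hj => Finset.mem_filter.2 ⟨Finset.mem_univ j, hj⟩)
  have hφ₀ : φ j₀ ≠ 0 := (Finset.mem_filter.1 hj₀).2
  obtain ⟨r, rfl⟩ : ∃ r', r = r' + 1 := ⟨r - 1, by have := j₀.isLt; omega⟩
  choose F hFm et hetm L hLm hFi hL using fun t : Fin r =>
    exists_factor_lift i q hker (hlift (j₀.succAbove t)) (hlift j₀) (hφ _) (hφ j₀) (by
      by_cases h0 : φ (j₀.succAbove t) = 0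
      · exact Or.inl h0
      · exact Or.inr ⟨hmax _ (Finset.mem_filter.2 ⟨Finset.mem_univ _, h0⟩), hφ₀⟩)
  haveI := hFm; haveI := hetm; haveI := hLm
  let nn' : Fin (r + 1) → ℕ := Fin.cons (nn j₀ + 1) fun t => nn (j₀.succAbove t)
  let T : ∀ j, W p (nn' j) SK ⟶ G := Fin.cases (g j₀) L
  have hTm : ∀ j, IsMonHom (T j) := Fin.cases (hgm j₀) hLm
  have hprod : ∀ a : ∀ j, PT ⟶ W p (nn' j) SK, (∏ j, a j ≫ T j) = a 0 ≫ g j₀ * ∏ t, a t.succ ≫ L t := fun a => by
    rw [Fin.prod_univ_succ]; rfl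
  have hq : ∀ (x : PT ⟶ W p (nn j₀ + 1) SK) (a : ∀ t, PT ⟶ W p (nn (j₀.succAbove t)) SK),
      (x ≫ g j₀ * ∏ t, a t ≫ L t) ≫ q =
        ((x ≫ R p SK (Nat.le_add_right (nn j₀) 1)) / ∏ t, a t ≫ et t) ≫ h j₀ *
          ∏ t, (a t ≫ F t) ≫ h (j₀.succAbove t) := fun x a => by
    rw [MonObj.mul_comp, finset_prod_comp, Category.assoc, hg1, div_eq_mul_inv, MonObj.mul_comp, GrpObj.inv_comp,
      finset_prod_comp]
    simp only [Category.assoc, hL, Finset.prod_mul_distrib, Finset.prod_inv_distrib]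
    ac_rfl
  obtain ⟨hφsurj, hφfin⟩ := addPoly_surj (hφ j₀) hφ₀
  refine hasCover_of_factors nn' T hTm (fun b => ?_) ?_
  · obtain ⟨u, hu'⟩ := hgQs (b ≫ q)
    choose a ha using fun t => (hFi t).1 (u ≫ proj (j₀.succAbove t))
    obtain ⟨x, hx⟩ : ∃ x : PT ⟶ W p (nn j₀ + 1) SK,
        x ≫ R p SK (Nat.le_add_right (nn j₀) 1) = (u ≫ proj j₀) * ∏ t, a t ≫ et t := by
      refine ⟨evEquiv.symm (pad (Nat.le_add_right (nn j₀) 1) (ev ((u ≫ proj j₀) * ∏ t, a t ≫ et t))), ev_injective ?_⟩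
      rw [ev_R, ev_evEquiv_symm, truncate_pad]
    obtain ⟨w, hw⟩ := exists_inc_eq i q hker (b / (x ≫ g j₀ * ∏ t, a t ≫ L t)) (by
      rw [div_eq_mul_inv, MonObj.mul_comp, GrpObj.inv_comp, hq, hx, mul_div_cancel_right, ← hu', hu,
        Fin.prod_univ_succAbove _ j₀]
      simp only [ha, mul_inv_cancel])
    obtain ⟨t₁, ht₁⟩ := hφsurj (w.coeff 0)
    refine ⟨Fin.cases (x * (evEquiv.symm (one1 t₁) ≫ V p SK (Nat.le_add_left 1 (nn j₀)))) a, ?_⟩
    rw [hprod]
    simp only [Fin.cases_zero, Fin.cases_succ]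
    have hw' : evEquiv.symm (one1 t₁) ≫ V p SK (Nat.le_add_left 1 (nn j₀)) ≫ g j₀ = inc i w := by
      rw [hg2, ev_evEquiv_symm, inc]
      congr 2
      exact eq_of_coeff_zero (by rw [coeff_vec1, coeff_one1, ht₁])
    rw [MonObj.mul_comp, Category.assoc, hw', hw, _root_.mul_right_comm, mul_div_cancel]
  · refine Set.Finite.of_finite_fibers
      (fun a => ((fun t => a t.succ : ∀ t, PT ⟶ W p (nn (j₀.succAbove t)) SK),
        a 0 ≫ R p SK (Nat.le_add_right (nn j₀) 1))) ?_ fun c _ => ?_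
    · have hA : {c : ∀ t, PT ⟶ W p (nn (j₀.succAbove t)) SK |
          ∃ u : PT ⟶ P, u ≫ gQ = 1 ∧ ∀ t, c t ≫ F t = u ≫ proj (j₀.succAbove t)}.Finite := by
        refine (hgQf.biUnion fun u _ => Set.Finite.pi (t := fun t =>
          {c | c ≫ F t = u ≫ proj (j₀.succAbove t)}) fun t => finite_fibre (F t) (hFi t).2 _).subset ?_
        rintro c ⟨u, hu1, hu2⟩
        simp only [Set.mem_iUnion]
        exact ⟨u, hu1, fun t _ => hu2 t⟩
      refine ((hA.biUnion fun c _ => hgQf.image fun u =>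
        (c, (u ≫ proj j₀) * ∏ t, c t ≫ et t))).subset ?_
      rintro _ ⟨a, ha, rfl⟩
      let d : ∀ j, PT ⟶ W p (nn j) SK := Fin.insertNth j₀
        ((a 0 ≫ R p SK (Nat.le_add_right (nn j₀) 1)) / ∏ t, a t.succ ≫ et t) fun t => a t.succ ≫ F t
      obtain ⟨u, hu1, hu2⟩ := hpart d
      have hu0 : u ≫ gQ = 1 := by
        rw [hu2, Fin.prod_univ_succAbove _ j₀]
        simp only [d, Fin.insertNth_apply_same, Fin.insertNth_apply_succAbove]
        rw [← hq, ← hprod, show (∏ j, a j ≫ T j) = 1 from ha, MonObj.one_comp]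
      simp only [Set.mem_iUnion]
      refine ⟨fun t => a t.succ, ⟨u, hu0, fun t => ?_⟩, u, hu0, ?_⟩
      · rw [hu1]; simp [d]
      · refine Prod.ext rfl ?_
        show (u ≫ proj j₀) * _ = _
        rw [hu1]; simp [d]
    · rcases Set.eq_empty_or_nonempty ({a : ∀ j, PT ⟶ W p (nn' j) SK | ∏ j, a j ≫ T j = 1} ∩
          (fun a => ((fun t => a t.succ : ∀ t, PT ⟶ W p (nn (j₀.succAbove t)) SK),
            a 0 ≫ R p SK (Nat.le_add_right (nn j₀) 1))) ⁻¹' {c}) with h0 | ⟨b, hb, hbc⟩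
      · exact h0 ▸ Set.finite_empty
      let b0 : PT ⟶ W p (nn j₀ + 1) SK := b 0
      refine (hφfin.image fun t => Function.update b 0
        (b0 * (evEquiv.symm (one1 t) ≫ V p SK (Nat.le_add_left 1 (nn j₀))))).subset fun a ⟨ha, hac⟩ => ?_
      have hs : ∀ t : Fin r, a t.succ = b t.succ := fun t =>
        (congrFun (congrArg Prod.fst hac) t).trans (congrFun (congrArg Prod.fst hbc) t).symm
      have hR : a 0 ≫ R p SK (Nat.le_add_right (nn j₀) 1) = b 0 ≫ R p SK (Nat.le_add_right (nn j₀) 1) :=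
        (congrArg Prod.snd hac).trans (congrArg Prod.snd hbc).symm
      obtain ⟨v, hv⟩ := exists_V_of_R_eq_one (Nat.le_add_right (nn j₀) 1) (Nat.le_add_left 1 (nn j₀)) (add_comm _ _)
        (b0⁻¹ * (show PT ⟶ W p (nn j₀ + 1) SK from a 0)) (by
          rw [MonObj.mul_comp, GrpObj.inv_comp]
          erw [hR]
          exact inv_mul_cancel _)
      refine ⟨(ev v).coeff 0, ?_, ?_⟩
      · have h1 := ((hprod a).symm.trans ha).trans ((hprod b).symm.trans hb).symm
        simp only [hs, mul_right_cancel_iff] at h1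
        have h2 : v ≫ V p SK (Nat.le_add_left 1 (nn j₀)) ≫ g j₀ = 1 := by
          rw [← Category.assoc, hv, MonObj.mul_comp, GrpObj.inv_comp, h1, inv_mul_cancel]
        rw [hg2] at h2
        have h3 : vec1 (φ j₀) (ev v) = 0 := inc_injective i q hker (h2.trans (inc_zero i).symm)
        have h4 := congrArg (fun w : TruncatedWittVector p 1 k => w.coeff 0) h3
        simpa [coeff_vec1] using h4
      · refine funext (Fin.cases ?_ fun t => ?_)
        · simp only [Function.update_self]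
          rw [one1_coeff, evEquiv_symm_ev, hv]
          exact mul_inv_cancel_left b0 _
        · show Function.update b 0 _ t.succ = a t.succ
          erw [Function.update_of_ne (Fin.succ_ne_zero t)]
          exact (hs t).symm

/-- Every unipotent group is covered by an isogeny from a product of Witt groups. -/
theorem hasCover (G : Over SK) [GrpObj G] [IsCommMonObj G] [Smooth G.hom] [ConnectedSpace ↥G.left]
    [IsAffine G.left] (M : ℕ) (hM : (𝟙 G) ^ (p ^ M) = 1) : HasCover p G := by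
  induction hd : topologicalKrullDim G.left using WellFoundedLT.induction generalizing G with
  | ind d ih =>
    by_cases hne : ∃ a : PT ⟶ G, a ≠ 1
    · obtain ⟨Q, _, _, i, q, hi, hq, -, hqs, hqf, hker, hQs, hQc, hQa, hQM, hlt⟩ := exists_quot G M hM hne
      haveI := hi; haveI := hq; haveI := hqs; haveI := hqf; haveI := hQs; haveI := hQc; haveI := hQa
      exact hasCover_step i q hker (ih _ (hd ▸ hlt) Q hQM rfl)
    · push_neg at hne
      refine hasCover_of_factors (fun j : Fin 0 => j.elim0) (fun j => j.elim0) (fun j => j.elim0)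
        (fun b => ⟨fun j => j.elim0, by simp [hne b]⟩) (Set.toFinite _)

end UnipStruct
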