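import Groth.Agent.UnipStructLib.Basic
import Groth.Agent.WittGrpLib.Homs
import Groth.Agent.WittGrpLib.HomLine

/-!
Finite products of Witt groups.
-/

set_option autoImplicit false
set_option linter.style.haveILetI false
set_option backward.isDefEq.respectTransparency false
set_option maxHeartbeats 1000000

noncomputable section

universe u

open CategoryTheory CategoryTheory.Limits MonoidalCategory CartesianMonoidalCategory MonObj AlgebraicGeometry
open WittGrp WittGrpLib
open Groth.Agent

namespace UnipStruct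

variable {p : ℕ} [Fact p.Prime] {k : Type u} [Field k]

local notation "SK" => Spec (CommRingCat.of k)
local notation "PT" => 𝟙_ (Over (Spec (CommRingCat.of k)))

/-- Any two morphisms into the Witt group of length zero agree. -/
theorem hom_W_zero {T : Over SK} (x y : T ⟶ W p 0 SK) : x = y :=
  ext_pts (TruncatedWittVector.ext fun i => i.elim0)

variable (p) in
/-- Products of Witt groups exist. -/
theorem exists_prod : ∀ (r : ℕ) (nn : Fin r → ℕ),
    ∃ (P : Over SK) (_ : GrpObj P) (_ : IsCommMonObj P) (proj : ∀ j, P ⟶ W p (nn j) SK),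
      (∀ j, IsMonHom (proj j)) ∧ Nonempty (IsLimit (Fan.mk P proj)) ∧ ∃ N, Nonempty (W p N SK ≅ P) := by
  intro r
  induction r with
  | zero =>
    intro nn
    refine ⟨PT, inferInstance, inferInstance, fun j => j.elim0, fun j => j.elim0,
      ⟨mkFanLimit _ (fun s => toUnit _) (fun s j => j.elim0) fun s m _ => toUnit_unique _ _⟩, 0, ⟨?_⟩⟩
    exact { hom := toUnit _, inv := mkPt 0, hom_inv_id := hom_W_zero _ _, inv_hom_id := toUnit_unique _ _ }
  | succ r ih =>
    intro nn
    obtain ⟨P, _, _, proj, hproj, ⟨hP⟩, N, ⟨e⟩⟩ := ih fun t => nn t.succ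
    let proj' : ∀ t, W p (nn 0) SK ⊗ P ⟶ W p (nn t) SK :=
      Fin.cases (fst _ _) fun t => snd (W p (nn 0) SK) P ≫ proj t
    refine ⟨W p (nn 0) SK ⊗ P, inferInstance, inferInstance, proj', ?_, ⟨?_⟩, nn 0 + N, ?_⟩
    · refine Fin.cases ?_ fun t => ?_
      · exact inferInstanceAs (IsMonHom (fst (W p (nn 0) SK) P))
      · haveI := hproj t
        exact inferInstanceAs (IsMonHom (snd (W p (nn 0) SK) P ≫ proj t))
    · refine mkFanLimit _ (fun s => lift (s.proj 0) (Fan.IsLimit.lift hP fun t => s.proj t.succ)) (fun s j => ?_)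
        fun s m hm => ?_
      · refine Fin.cases ?_ (fun t => ?_) j
        · exact lift_fst _ _
        · show lift _ _ ≫ snd _ _ ≫ proj t = _
          rw [lift_snd_assoc]
          exact hP.fac (Fan.mk _ fun t => s.proj t.succ) ⟨t⟩
      · refine CartesianMonoidalCategory.hom_ext _ _ ?_ ?_
        · rw [lift_fst]; exact hm 0
        · rw [lift_snd]
          refine hP.hom_ext fun j => ?_
          obtain ⟨t⟩ := j
          rw [Category.assoc]
          exact (hm t.succ).trans (hP.fac (Fan.mk _ fun t => s.proj t.succ) ⟨t⟩).symm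
    · obtain ⟨d, -, -⟩ := exists_iso_prod (p := p) (S := SK) (n := nn 0) (l := N) (m := nn 0 + N)
        (Nat.le_add_right _ _) (Nat.le_add_left _ _) (Nat.add_comm _ _)
      exact ⟨d ≪≫ MonoidalCategory.whiskerLeftIso _ e⟩

/-- The homomorphism with trivial value. -/
theorem isMonHom_one {X Y : Over SK} [GrpObj X] [GrpObj Y] : IsMonHom (1 : X ⟶ Y) := by
  refine ⟨?_, ?_⟩
  · rw [MonObj.comp_one, Hom.one_def, toUnit_unique (toUnit _) (𝟙 _), Category.id_comp]
  · rw [MonObj.comp_one, MonObj.mul_eq_mul, MonObj.comp_mul, tensorHom_fst, tensorHom_snd, MonObj.comp_one,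
      MonObj.comp_one, _root_.mul_one]

/-- Products of homomorphisms to a commutative group are homomorphisms. -/
theorem isMonHom_finset_prod {X Y : Over SK} [GrpObj X] [GrpObj Y] [IsCommMonObj Y] {κ : Type*} (s : Finset κ)
    (f : κ → (X ⟶ Y)) (h : ∀ j ∈ s, IsMonHom (f j)) : IsMonHom (∏ j ∈ s, f j) := by
  refine Finset.prod_induction f (fun g => IsMonHom g) (fun a b ha hb => ?_) isMonHom_one h
  rw [Hom.mul_def]
  infer_instance

/-- Composition with products. -/
theorem comp_finset_prod {T X Y : Over SK} [GrpObj Y] [IsCommMonObj Y] {κ : Type*} (s : Finset κ) (a : T ⟶ X)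
    (f : κ → (X ⟶ Y)) : a ≫ ∏ j ∈ s, f j = ∏ j ∈ s, a ≫ f j := by
  induction s using Finset.cons_induction with
  | empty => rw [Finset.prod_empty, Finset.prod_empty, MonObj.comp_one]
  | cons j s hj ih => rw [Finset.prod_cons, Finset.prod_cons, MonObj.comp_mul, ih]

theorem finset_prod_comp {T X Y : Over SK} [GrpObj X] [IsCommMonObj X] [GrpObj Y] [IsCommMonObj Y] {κ : Type*}
    (s : Finset κ) (f : κ → (T ⟶ X)) (g : X ⟶ Y) [IsMonHom g] : (∏ j ∈ s, f j) ≫ g = ∏ j ∈ s, f j ≫ g := by
  induction s using Finset.cons_induction with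
  | empty => rw [Finset.prod_empty, Finset.prod_empty, MonObj.one_comp]
  | cons j s hj ih => rw [Finset.prod_cons, Finset.prod_cons, MonObj.mul_comp, ih]

variable {r : ℕ} {nn : Fin r → ℕ} {P : Over (Spec (CommRingCat.of k))}
  {proj : ∀ j, P ⟶ W p (nn j) (Spec (CommRingCat.of k))}

theorem proj_ext (hP : IsLimit (Fan.mk P proj)) {T : Over SK} {a b : T ⟶ P} (h : ∀ j, a ≫ proj j = b ≫ proj j) :
    a = b := hP.hom_ext fun j => h j.as

theorem exists_of_proj (hP : IsLimit (Fan.mk P proj)) {T : Over SK} (f : ∀ j, T ⟶ W p (nn j) SK) :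
    ∃ a : T ⟶ P, ∀ j, a ≫ proj j = f j :=
  ⟨Fan.IsLimit.lift hP f, fun j => hP.fac (Fan.mk T f) ⟨j⟩⟩

theorem isCommMonObj_prod [GrpObj P] [∀ j, IsMonHom (proj j)] (hP : IsLimit (Fan.mk P proj)) : IsCommMonObj P :=
  ⟨proj_ext hP fun j => by rw [Category.assoc, IsMonHom.mul_hom, ← Category.assoc, ← BraidedCategory.braiding_naturality,
    Category.assoc, IsCommMonObj.mul_comm]⟩

variable [IsAlgClosed k]

/-- A product of Witt groups is smooth, connected and affine. -/
theorem props_prod (hP : IsLimit (Fan.mk P proj)) : Smooth P.hom ∧ ConnectedSpace ↥P.left ∧ IsAffine P.left := by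
  obtain ⟨P', _, _, proj', -, ⟨hP'⟩, N, ⟨e⟩⟩ := exists_prod (k := k) p r nn
  let d : W p N SK ≅ P := e ≪≫ hP'.conePointUniqueUpToIso hP
  let d' : (W p N SK).left ≅ P.left := (Over.forget SK).mapIso d
  haveI : IsAffine (W p N SK).left := isAffine_W
  haveI : IsIso d.inv.left := inferInstanceAs (IsIso d'.inv)
  refine ⟨?_, ?_, .of_isIso d'.inv⟩
  · rw [← Over.w d.inv]; infer_instance
  · haveI : IrreducibleSpace ↥(Spec (CommRingCat.of k)) := inferInstanceAs (IrreducibleSpace (PrimeSpectrum k))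
    haveI : IrreducibleSpace (W p N SK).left :=
      inferInstanceAs (IrreducibleSpace 𝔸(ULift.{u} (Fin N); Spec (CommRingCat.of k)))
    exact d'.hom.surjective.connectedSpace d'.hom.continuous

/-- A product of Witt groups is killed by a power of `p`. -/
theorem killed_prod [CharP k p] [GrpObj P] [∀ j, IsMonHom (proj j)] (hP : IsLimit (Fan.mk P proj)) (N : ℕ)
    (hN : ∀ j, nn j ≤ N) : (𝟙 P) ^ (p ^ N) = 1 := by
  haveI := (props_prod hP).1
  refine proj_ext hP fun j => ?_
  rw [MonObj.pow_comp, Category.id_comp, MonObj.one_comp]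
  refine hom_ext_ev (A := P) fun a => ?_
  rw [MonObj.comp_pow, MonObj.comp_one, ev_pow, ev_one, nsmul_eq_zero _ (hN j)]

/-- The inclusion of a factor. -/
theorem exists_incl [GrpObj P] [∀ j, IsMonHom (proj j)] (hP : IsLimit (Fan.mk P proj)) (j₀ : Fin r) :
    ∃ e : W p (nn j₀) SK ⟶ P, IsMonHom e ∧ e ≫ proj j₀ = 𝟙 _ ∧ ∀ j, j ≠ j₀ → e ≫ proj j = 1 := by
  classical
  let f : ∀ j, W p (nn j₀) SK ⟶ W p (nn j) SK :=
    Function.update (fun j => (1 : W p (nn j₀) SK ⟶ W p (nn j) SK)) j₀ (𝟙 _)
  have hf : ∀ j, IsMonHom (f j) := fun j => by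
    rcases eq_or_ne j j₀ with rfl | hj
    · simp only [f, Function.update_self]; infer_instance
    · simp only [f, Function.update_of_ne hj]; exact isMonHom_one
  obtain ⟨e, he⟩ := exists_of_proj hP f
  refine ⟨e, ⟨proj_ext hP fun j => ?_, proj_ext hP fun j => ?_⟩, by rw [he]; simp [f],
    fun j hj => by rw [he]; simp [f, Function.update_of_ne hj]⟩
  · haveI := hf j
    rw [Category.assoc, he, IsMonHom.one_hom, IsMonHom.one_hom]
  · haveI := hf j
    rw [Category.assoc, he, IsMonHom.mul_hom, Category.assoc, IsMonHom.mul_hom, ← Category.assoc, tensorHom_comp_tensorHom, he]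

end UnipStruct
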