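import Groth.Agent.UnipStructLib.Isogenous

/-!
The scheme structure of unipotent groups and their additive quotients.
-/

set_option autoImplicit false
set_option linter.style.haveILetI false
set_option backward.isDefEq.respectTransparency false
set_option maxHeartbeats 1000000

noncomputable section

universe u

open CategoryTheory CategoryTheory.Limits MonoidalCategory CartesianMonoidalCategory MonObj AlgebraicGeometry
open WittGrp WittGrpLib WittExtLib
open Groth.Agent

namespace UnipStruct

variable {p : ℕ} [Fact p.Prime] {k : Type u} [Field k]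

local notation "SK" => Spec (CommRingCat.of k)
local notation "PT" => 𝟙_ (Over (Spec (CommRingCat.of k)))

/-- Schemes isomorphic to a Witt group are smooth, connected and affine. -/
theorem props_of_iso [IsAlgClosed k] {X : Over SK} {N : ℕ} (e : W p N SK ≅ X) :
    Smooth X.hom ∧ ConnectedSpace ↥X.left ∧ IsAffine X.left := by
  let d' : (W p N SK).left ≅ X.left := (Over.forget SK).mapIso e
  haveI : IsAffine (W p N SK).left := isAffine_W
  haveI : IsIso e.inv.left := inferInstanceAs (IsIso d'.inv)
  refine ⟨?_, ?_, .of_isIso d'.inv⟩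
  · rw [← Over.w e.inv]; infer_instance
  · haveI : IrreducibleSpace ↥(Spec (CommRingCat.of k)) := inferInstanceAs (IrreducibleSpace (PrimeSpectrum k))
    haveI : IrreducibleSpace (W p N SK).left :=
      inferInstanceAs (IrreducibleSpace 𝔸(ULift.{u} (Fin N); Spec (CommRingCat.of k)))
    exact d'.hom.surjective.connectedSpace d'.hom.continuous

/-- The product of Witt groups as a Witt group. -/
theorem exists_iso_tensor {X Y : Over SK} {a b : ℕ} (e : W p a SK ≅ X) (d : W p b SK ≅ Y) :
    Nonempty (W p (a + b) SK ≅ X ⊗ Y) := by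
  obtain ⟨c, -, -⟩ := exists_iso_prod (p := p) (S := SK) (n := a) (l := b) (m := a + b)
    (Nat.le_add_right _ _) (Nat.le_add_left _ _) (Nat.add_comm _ _)
  exact ⟨c ≪≫ MonoidalCategory.tensorIso e d⟩

variable [IsAlgClosed k] [CharP k p]

theorem dim_of_iso {X : Over SK} {N : ℕ} (e : W p N SK ≅ X) : topologicalKrullDim ↥X.left = N := by
  rw [← dim_W (p := p) (k := k) N]
  exact (((Over.forget SK).mapIso e).hom.homeomorph.isHomeomorph.topologicalKrullDim_eq).symm

theorem eq_of_iso {X : Over SK} {N M : ℕ} (e : W p N SK ≅ X) (d : W p M SK ≅ X) : N = M := by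
  have h := (dim_of_iso e).symm.trans (dim_of_iso d)
  exact_mod_cast h

/-- A trivial unipotent group is the point. -/
theorem iso_of_trivial (G : Over SK) [GrpObj G] [Smooth G.hom] [IsAffine G.left] (h : ∀ a : PT ⟶ G, a = 1) :
    Nonempty (W p 0 SK ≅ G) := by
  haveI : IsSeparated G.hom := inferInstance
  haveI : IsReduced G.left := AlgSpLib.isReduced_of_smooth G.hom
  refine ⟨(⟨1, 1, hom_W_zero _ _, ?_⟩ : W p 0 SK ≅ G)⟩
  exact AVAmpleLib.hom_ext_of_points (A := G) (C := G) _ _ fun a => (h _).trans (h _).symm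

/-- An extension by the additive group is a product as a scheme. -/
theorem exists_iso_of_ext {G Q : Over SK} [GrpObj G] [IsCommMonObj G] [Smooth G.hom] [IsAffine G.left] [GrpObj Q]
    [Smooth Q.hom] [IsAffine Q.left] (i : W p 1 SK ⟶ G) [IsMonHom i] (q : G ⟶ Q) [IsMonHom q] [Surjective q.left]
    [Flat q.left] (hker : AlgGrp.IsKernel i q) {a : ℕ} (e : W p a SK ≅ Q) : Nonempty (W p (a + 1) SK ≅ G) := by
  haveI : QuasiCompact G.hom := inferInstance
  haveI : IsSeparated G.hom := inferInstance
  haveI : IsReduced G.left := AlgSpLib.isReduced_of_smooth G.hom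
  haveI : Smooth (fst Q (W p 1 SK)).left := MorphismProperty.pullback_fst _ _ inferInstance
  haveI : Smooth (Q ⊗ W p 1 SK).hom := by rw [← Over.w (fst Q (W p 1 SK))]; infer_instance
  haveI : IsReduced (Q ⊗ W p 1 SK).left := AlgSpLib.isReduced_of_smooth (Q ⊗ W p 1 SK).hom
  haveI : IsSeparated (Q ⊗ W p 1 SK).hom := inferInstanceAs
    (IsSeparated (pullback.fst Q.hom (W p 1 SK).hom ≫ Q.hom))
  obtain ⟨σ, ρ, h1, h2, hd, he⟩ := exists_sec G Q i q hker
  let Φ : G ⟶ Q ⊗ W p 1 SK := lift q ρ
  let Ψ : Q ⊗ W p 1 SK ⟶ G := (fst _ _ ≫ σ) * (snd _ _ ≫ i)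
  have hΦΨ : Φ ≫ Ψ = 𝟙 G := AVAmpleLib.hom_ext_of_points _ _ fun x => by
    simp only [Φ, Ψ, MonObj.comp_mul, Category.comp_id, lift_fst_assoc, lift_snd_assoc]
    exact (hd x).symm
  have hΨΦ : Ψ ≫ Φ = 𝟙 _ := AVAmpleLib.hom_ext_of_points _ _ fun x => by
    refine CartesianMonoidalCategory.hom_ext _ _ ?_ ?_
    · simp only [Φ, Ψ, Category.assoc, lift_fst, Category.id_comp, MonObj.mul_comp, MonObj.comp_mul]
      rw [h1, hker.w, Category.comp_id, ← Category.assoc (snd Q (W p 1 SK)),
        toUnit_unique (snd Q (W p 1 SK) ≫ toUnit _) (toUnit _), ← Hom.one_def, MonObj.comp_one, _root_.mul_one]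
    · simp only [Φ, Ψ, Category.assoc, lift_snd, Category.id_comp]
      rw [← Category.assoc x, MonObj.comp_mul, ← Category.assoc x (snd _ _), he, Category.assoc, Category.assoc, h2,
        MonObj.comp_one, MonObj.comp_one, _root_.one_mul]
  obtain ⟨c⟩ := exists_iso_tensor e (Iso.refl (W p 1 SK))
  exact ⟨c ≪≫ ⟨Ψ, Φ, hΨΦ, hΦΨ⟩⟩

/-- A unipotent group is a Witt group as a scheme. -/
theorem exists_shape (G : Over SK) [GrpObj G] [IsCommMonObj G] [Smooth G.hom] [ConnectedSpace ↥G.left]
    [IsAffine G.left] (M : ℕ) (hM : (𝟙 G) ^ (p ^ M) = 1) : ∃ N, Nonempty (W p N SK ≅ G) := by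
  induction hd : topologicalKrullDim G.left using WellFoundedLT.induction generalizing G with
  | ind d ih =>
    by_cases hne : ∃ a : PT ⟶ G, a ≠ 1
    · obtain ⟨Q, _, _, i, q, hi, hq, -, hqs, hqf, hker, hQs, hQc, hQa, hQM, hlt⟩ := exists_quot G M hM hne
      haveI := hi; haveI := hq; haveI := hqs; haveI := hqf; haveI := hQs; haveI := hQc; haveI := hQa
      obtain ⟨a, ⟨e⟩⟩ := ih _ (hd ▸ hlt) Q hQM rfl
      exact ⟨a + 1, exists_iso_of_ext i q hker e⟩
    · push_neg at hne
      exact ⟨0, iso_of_trivial G hne⟩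

/-- A non-trivial unipotent group has an additive quotient with connected smooth kernel. -/
theorem exists_top : ∀ (N : ℕ) (G : Over SK) [GrpObj G] [IsCommMonObj G] [Smooth G.hom] [ConnectedSpace ↥G.left]
    [IsAffine G.left] (M : ℕ) (_ : (𝟙 G) ^ (p ^ M) = 1) (_ : Nonempty (W p (N + 1) SK ≅ G)),
    ∃ (H : Over SK) (_ : GrpObj H) (_ : IsCommMonObj H) (i : H ⟶ G) (q : G ⟶ W p 1 SK), IsMonHom i ∧ IsMonHom q ∧
      IsClosedImmersion i.left ∧ Surjective q.left ∧ Flat q.left ∧ AlgGrp.IsKernel i q ∧
      (𝟙 H) ^ (p ^ M) = 1 ∧ Nonempty (W p N SK ≅ H) := by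
  intro N
  induction N using Nat.strong_induction_on with
  | _ N ih =>
    intro G _ _ _ _ _ M hM ⟨eG⟩
    by_cases hne : ∃ a : PT ⟶ G, a ≠ 1
    swap
    · push_neg at hne
      obtain ⟨e0⟩ := iso_of_trivial (p := p) G hne
      exact absurd (eq_of_iso eG e0) (by omega)
    obtain ⟨Q, _, _, j, r, hj, hr, hjc, hrs, hrf, hker, hQs, hQc, hQa, hQM, -⟩ := exists_quot G M hM hne
    haveI := hj; haveI := hr; haveI := hjc; haveI := hrs; haveI := hrf; haveI := hQs; haveI := hQc; haveI := hQa
    haveI : QuasiCompact G.hom := inferInstance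
    haveI : IsSeparated G.hom := inferInstance
    haveI : IsSeparated Q.hom := inferInstance
    haveI : IsReduced G.left := AlgSpLib.isReduced_of_smooth G.hom
    haveI : Mono j := Over.mono_of_mono_left j
    obtain ⟨a, ⟨eQ⟩⟩ := exists_shape Q M hQM
    obtain ⟨eG'⟩ := exists_iso_of_ext j r hker eQ
    have ha : a = N := by have := eq_of_iso eG eG'; omega
    subst ha
    rcases a with _ | b
    · -- the quotient is trivial
      have htriv : ∀ x : PT ⟶ Q, x = 1 := fun x => (cancel_mono eQ.inv).1 (hom_W_zero _ _)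
      have hr1 : r = 1 := AVAmpleLib.hom_ext_of_points _ _ fun x => (htriv _).trans (by rw [MonObj.comp_one])
      obtain ⟨s, hs⟩ := AntiAffLib.exists_lift_kernel hker (𝟙 G) (by rw [Category.id_comp, hr1])
      have hjs : j ≫ s = 𝟙 _ := (cancel_mono j).1 (by rw [Category.assoc, hs, Category.comp_id, Category.id_comp])
      haveI : IsMonHom s := ⟨(cancel_mono j).1 (by rw [Category.assoc, hs, Category.comp_id, IsMonHom.one_hom]),
        (cancel_mono j).1 (by rw [Category.assoc, hs, Category.comp_id, Category.assoc, IsMonHom.mul_hom,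
          ← Category.assoc, tensorHom_comp_tensorHom, hs, id_tensorHom_id, Category.id_comp])⟩
      haveI : IsIso s := ⟨⟨j, hs, hjs⟩⟩
      haveI : IsIso s.left := (Over.forget SK).map_isIso s
      haveI : Mono (η[G] : PT ⟶ G) := ⟨fun x y _ => toUnit_unique x y⟩
      haveI : IsClosedImmersion (η[G] : PT ⟶ G).left :=
        isClosedImmersion_of_comp_eq_id G.hom _ (Over.w (η[G] : PT ⟶ G))
      have hW : ∀ x : PT ⟶ W p 0 SK, x = 1 := fun x => hom_W_zero _ _
      refine ⟨PT, inferInstance, inferInstance, η[G], s, inferInstance, inferInstance, inferInstance, inferInstance,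
        inferInstance, AntiAffLib.isKernel_of_forall _ _ ?_ fun T g hg => ⟨toUnit T, ?_⟩, toUnit_unique _ _,
        ⟨⟨toUnit _, mkPt 0, hom_W_zero _ _, toUnit_unique _ _⟩⟩⟩
      · rw [IsMonHom.one_hom, Hom.one_def, toUnit_unique (toUnit PT) (𝟙 _), Category.id_comp]
      · have h1 := congrArg (· ≫ j) hg
        rw [Category.assoc, hs, Category.comp_id, MonObj.one_comp] at h1
        rw [h1, Hom.one_def]
    · obtain ⟨H', _, _, i', q', hi', hq', hic', hqs', hqf', hker', hHM', ⟨eH'⟩⟩ :=
        ih b (Nat.lt_succ_self b) Q M hQM ⟨eQ⟩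
      haveI := hi'; haveI := hq'; haveI := hqs'; haveI := hqf'; haveI := hic'
      haveI : LocallyOfFiniteType (W p 1 SK).hom := inferInstance
      haveI : Surjective (r ≫ q').left := by rw [Over.comp_left]; infer_instance
      haveI : Flat (r ≫ q').left := by rw [Over.comp_left]; infer_instance
      obtain ⟨H, _, i, hi, hic, hk, -⟩ := AntiAffLib.exists_kernel (r ≫ q')
      haveI := hi; haveI := hic
      haveI : Mono i := Over.mono_of_mono_left i
      haveI : IsCommMonObj H := AntiAffLib.CommCat.isComm_of_mono i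
      obtain ⟨σ, ρ, h1, h2, hd, he⟩ := exists_sec G Q j r hker
      obtain ⟨π', hπ'⟩ := AntiAffLib.exists_lift_kernel hker' (i ≫ r)
        (by rw [Category.assoc, AntiAffLib.kernel_comp hk])
      obtain ⟨inv', hinv⟩ := AntiAffLib.exists_lift_kernel hk ((fst H' (W p 1 SK) ≫ i' ≫ σ) * (snd H' (W p 1 SK) ≫ j))
        (by
          rw [← Category.assoc, MonObj.mul_comp, Category.assoc, Category.assoc, h1, Category.comp_id, Category.assoc,
            AntiAffLib.kernel_comp hker, MonObj.comp_one, _root_.mul_one, Category.assoc,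
            AntiAffLib.kernel_comp hker', MonObj.comp_one])
      have hshear : ∀ x : G ⟶ G, x = 𝟙 G → (r ≫ σ) * (ρ ≫ j) = x := fun x hx => by
        rw [hx]
        refine AVAmpleLib.hom_ext_of_points _ _ fun y => ?_
        rw [MonObj.comp_mul, Category.comp_id]
        exact (hd y).symm
      have hmulρ : ∀ {X : Over SK} (x : X ⟶ H') (t : X ⟶ W p 1 SK),
          ((x ≫ i' ≫ σ) * (t ≫ j)) ≫ ρ = t := by
        intro X x t
        have hgen : ((fst Q (W p 1 SK) ≫ σ) * (snd Q (W p 1 SK) ≫ j)) ≫ ρ = snd Q (W p 1 SK) := by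
          haveI : Smooth (fst Q (W p 1 SK)).left := MorphismProperty.pullback_fst _ _ inferInstance
          haveI : Smooth (Q ⊗ W p 1 SK).hom := by rw [← Over.w (fst Q (W p 1 SK))]; infer_instance
          haveI : IsReduced (Q ⊗ W p 1 SK).left := AlgSpLib.isReduced_of_smooth (Q ⊗ W p 1 SK).hom
          refine AVAmpleLib.hom_ext_of_points _ _ fun y => ?_
          rw [← Category.assoc, MonObj.comp_mul, ← Category.assoc y (snd _ _), he, Category.assoc, Category.assoc, h2,
            MonObj.comp_one, MonObj.comp_one, _root_.one_mul]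
        have h3 := congrArg (lift (x ≫ i') t ≫ ·) hgen
        simpa only [← Category.assoc, MonObj.comp_mul, lift_fst, lift_snd] using h3
      refine ⟨H, inferInstance, inferInstance, i, r ≫ q', hi, inferInstance, hic, inferInstance, inferInstance, hk, ?_, ?_⟩
      · rw [← cancel_mono i, MonObj.pow_comp, Category.id_comp, MonObj.one_comp, ← Category.comp_id i,
          ← MonObj.comp_pow, hM, MonObj.comp_one]
      · obtain ⟨c⟩ := exists_iso_tensor eH' (Iso.refl (W p 1 SK))
        refine ⟨c ≪≫ ⟨inv', lift π' (i ≫ ρ), ?_, ?_⟩⟩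
        · refine CartesianMonoidalCategory.hom_ext _ _ ?_ ?_
          · haveI : Mono i' := Over.mono_of_mono_left i'
            rw [← cancel_mono i', Category.assoc, Category.assoc, lift_fst_assoc, hπ', ← Category.assoc inv', hinv,
              MonObj.mul_comp, Category.assoc, Category.assoc, h1, Category.comp_id, Category.assoc,
              AntiAffLib.kernel_comp hker, MonObj.comp_one, _root_.mul_one, Category.id_comp]
          · rw [Category.assoc, lift_snd, ← Category.assoc, hinv, hmulρ, Category.id_comp]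
        · rw [← cancel_mono i, Category.assoc, hinv, MonObj.comp_mul, lift_fst_assoc, lift_snd_assoc,
            Category.id_comp, ← Category.assoc π', hπ', Category.assoc, Category.assoc, ← MonObj.comp_mul,
            hshear _ rfl, Category.comp_id]

end UnipStruct
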